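import Cfsg.Agent.H14.PD.Fix
import Cfsg.Agent.H160.DP.FlagB
import Cfsg.Agent.AutOrth.Main

/-!
# S4247, orthogonal groups in odd characteristic `p`: no factorization `S = H P` with `P` of odd order containing a
Sylow `p`-subgroup and `H` a `p'`-group (helper14)
-/

set_option autoImplicit false
set_option linter.unusedSectionVars false

namespace Cfsg.Agent.H14.DP

open QuadraticMap Module Cfsg.Agent.LieClassical.OrthCore Cfsg.Agent.LieClassical.OrthTrans
open Cfsg.Agent.ClassicalGeometry.OrthSemi Cfsg.Agent.ClassicalGeometry.OrthAut1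
open Cfsg.Agent.H200.LinFix Cfsg.Agent.H200.RowOrth Cfsg.Agent.H568
open Cfsg.Agent.H14.PD
open Cfsg.Agent.H160.PD (v v_mono v_eq_zero v_pos)

variable {F V : Type*} [Field F] [AddCommGroup V] [Module F V] {Q : QuadraticForm F V}

/-! ### separation -/

theorem exists_sep_sub [FiniteDimensional F V] (hQ : Nondeg Q) {B : Submodule F V} {y : V} (hy : y ∉ B) :
    ∃ w, (∀ b ∈ B, polar Q b w = 0) ∧ polar Q w y = 1 := by
  obtain ⟨f, hf, hfB⟩ := Submodule.exists_dual_map_eq_bot_of_notMem hy inferInstance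
  have hinj : Function.Injective (polarBilin Q) := by
    rw [← LinearMap.ker_eq_bot, Submodule.eq_bot_iff]
    intro x hx
    apply hQ
    intro z
    exact congrArg (fun g : V →ₗ[F] F => g z) (LinearMap.mem_ker.1 hx)
  have hsurj : Function.Surjective (polarBilin Q) :=
    (LinearMap.injective_iff_surjective_of_finrank_eq_finrank
      (by rw [Subspace.dual_finrank_eq])).1 hinj
  obtain ⟨w, hw⟩ := hsurj ((f y)⁻¹ • f)
  have hw' : ∀ z, polar Q w z = (f y)⁻¹ * f z := fun z => congrArg (fun g : V →ₗ[F] F => g z) hw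
  refine ⟨w, fun b hb => ?_, ?_⟩
  · have h1 : f b ∈ B.map f := ⟨b, hb, rfl⟩
    rw [hfB, Submodule.mem_bot] at h1
    rw [polar_comm, hw', h1, mul_zero]
  · rw [hw', inv_mul_cancel₀ hf]

/-- swapping two points: even order -/
theorem no_swap [Finite V] (hG : Good Q) {P₀ : Subgroup (P Q)} (hP : Odd (Nat.card P₀)) {s : ↥(E Q)}
    (hs : (QuotientGroup.mk s : P Q) ∈ P₀) {x y : V} {c d : F} (hc : c ≠ 0) (hx : (s : V ≃ₗ[F] V) x = c • y)
    (hy : (s : V ≃ₗ[F] V) y = d • x) : y ∈ Submodule.span F {x} := by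
  have hfin : Finite ↥(E Q) := finite_E
  obtain ⟨i, hi⟩ := hP
  have h1 : (QuotientGroup.mk s : P Q) ^ (2 * i + 1) = 1 := by
    have h2 : (⟨QuotientGroup.mk s, hs⟩ : P₀) ^ Nat.card P₀ = 1 := pow_card_eq_one'
    rw [hi] at h2
    exact congrArg Subtype.val h2
  have h3 : (s ^ 2) ^ i * s ∈ Subgroup.center ↥(E Q) := by
    rw [← pow_mul, ← pow_succ]
    rw [← QuotientGroup.eq_one_iff]
    exact h1
  obtain ⟨e, he⟩ := center_scalar hG h3
  have h4 : ∀ j : ℕ, (((s ^ 2) ^ j : ↥(E Q)) : V ≃ₗ[F] V) (c • y) = (c * d) ^ j • c • y := by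
    intro j
    induction j with
    | zero => rw [pow_zero, pow_zero, one_smul]; rfl
    | succ j ih =>
      have e1 : (((s ^ 2) ^ (j + 1) : ↥(E Q)) : V ≃ₗ[F] V) (c • y) =
          (((s ^ 2) ^ j : ↥(E Q)) : V ≃ₗ[F] V) ((s : V ≃ₗ[F] V) ((s : V ≃ₗ[F] V) (c • y))) := by
        rw [pow_succ, pow_two]
        rfl
      have e2 : (s : V ≃ₗ[F] V) ((s : V ≃ₗ[F] V) (c • y)) = (c * d) • c • y := by
        rw [map_smul, hy, map_smul, map_smul, hx, smul_smul]
      rw [e1, e2, map_smul, ih, smul_smul, pow_succ, mul_comm ((c * d) ^ j)]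
  have h5 : (((s ^ 2) ^ i * s : ↥(E Q)) : V ≃ₗ[F] V) x = (c * d) ^ i • c • y := by
    rw [← h4, ← hx]
    rfl
  rw [he, smul_smul] at h5
  by_cases hd : d = 0
  · rw [hd, zero_smul] at hy
    rw [(s : V ≃ₗ[F] V).map_eq_zero_iff.1 hy]
    exact zero_mem _
  rw [Submodule.mem_span_singleton]
  refine ⟨((c * d) ^ i * c)⁻¹ * e, ?_⟩
  rw [mul_smul, h5, smul_smul, inv_mul_cancel₀ (mul_ne_zero (pow_ne_zero _ (mul_ne_zero hc hd)) hc), one_smul]

/-- conjugation of Siegel transformations -/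
theorem conj_sg' {u w : V} (hu : Q u = 0) (hw : w ∈ pp Q u) (g : ↥(E Q)) (hgu : Q ((g : V ≃ₗ[F] V) u) = 0)
    (hgw : (g : V ≃ₗ[F] V) w ∈ pp Q ((g : V ≃ₗ[F] V) u)) :
    g * sg hu (Multiplicative.ofAdd ⟨w, hw⟩) * g⁻¹ = sg hgu (Multiplicative.ofAdd ⟨(g : V ≃ₗ[F] V) w, hgw⟩) := by
  apply Subtype.ext
  exact siegel_conj (E_le_O g.2) hu hw hgu hgw

/-- the first swap: `x ⊥ y` -/
theorem swap_one {x y w w' : V} (hx : Q x = 0) (hy : Q y = 0) (hw : w ∈ pp Q x) (hw' : w' ∈ pp Q y)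
    (hxy : polar Q x y = 0) (h1 : polar Q w y = 1) (h2 : polar Q w' x = -1) :
    ((sg hx (Multiplicative.ofAdd ⟨w, hw⟩) * sg hy (Multiplicative.ofAdd ⟨w', hw'⟩) *
      sg hx (Multiplicative.ofAdd ⟨w, hw⟩) : ↥(E Q)) : V ≃ₗ[F] V) x = (1 : F) • y ∧
    ((sg hx (Multiplicative.ofAdd ⟨w, hw⟩) * sg hy (Multiplicative.ofAdd ⟨w', hw'⟩) *
      sg hx (Multiplicative.ofAdd ⟨w, hw⟩) : ↥(E Q)) : V ≃ₗ[F] V) y = (-1 : F) • x := by
  have hyx : polar Q y x = 0 := by rw [polar_comm, hxy]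
  have hxw : polar Q w x = 0 := by rw [polar_comm]; exact hw
  have hyw : polar Q w' y = 0 := by rw [polar_comm]; exact hw'
  have hxx : polar Q x x = 0 := polar_self_of_sing hx
  have hyy : polar Q y y = 0 := polar_self_of_sing hy
  have a1 : ((sg hx (Multiplicative.ofAdd ⟨w, hw⟩) : ↥(E Q)) : V ≃ₗ[F] V) x = x := by
    rw [sg_apply, hxx, hxw]; simp
  have a2 : ((sg hx (Multiplicative.ofAdd ⟨w, hw⟩) : ↥(E Q)) : V ≃ₗ[F] V) y = y - x := by
    rw [sg_apply, hxy, h1]; simp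
  have a3 : ((sg hy (Multiplicative.ofAdd ⟨w', hw'⟩) : ↥(E Q)) : V ≃ₗ[F] V) x = x + y := by
    rw [sg_apply, hyx, h2]; simp
  have a4 : ((sg hy (Multiplicative.ofAdd ⟨w', hw'⟩) : ↥(E Q)) : V ≃ₗ[F] V) y = y := by
    rw [sg_apply, hyy, hyw]; simp
  constructor
  · change ((sg hx (Multiplicative.ofAdd ⟨w, hw⟩) : ↥(E Q)) : V ≃ₗ[F] V)
      (((sg hy (Multiplicative.ofAdd ⟨w', hw'⟩) : ↥(E Q)) : V ≃ₗ[F] V)
        (((sg hx (Multiplicative.ofAdd ⟨w, hw⟩) : ↥(E Q)) : V ≃ₗ[F] V) x)) = _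
    rw [a1, a3, map_add, a1, a2, one_smul]
    abel
  · change ((sg hx (Multiplicative.ofAdd ⟨w, hw⟩) : ↥(E Q)) : V ≃ₗ[F] V)
      (((sg hy (Multiplicative.ofAdd ⟨w', hw'⟩) : ↥(E Q)) : V ≃ₗ[F] V)
        (((sg hx (Multiplicative.ofAdd ⟨w, hw⟩) : ↥(E Q)) : V ≃ₗ[F] V) y)) = _
    rw [a2, map_sub, a3, a4, map_sub, map_add, a1, a2, neg_one_smul]
    abel

/-- the second swap: `(x, y) = β ≠ 0` -/
theorem swap_two {x y w : V} (hx : Q x = 0) (hy : Q y = 0) (hw : w ∈ pp Q x) {b : F} (hw' : b • w ∈ pp Q y)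
    (hwy : polar Q w y = 0) (hb : Q w * polar Q x y * b = 1) :
    ((sg hx (Multiplicative.ofAdd ⟨w, hw⟩) * sg hy (Multiplicative.ofAdd ⟨b • w, hw'⟩) *
      sg hx (Multiplicative.ofAdd ⟨w, hw⟩) : ↥(E Q)) : V ≃ₗ[F] V) x = (-b) • y ∧
    ((sg hx (Multiplicative.ofAdd ⟨w, hw⟩) * sg hy (Multiplicative.ofAdd ⟨b • w, hw'⟩) *
      sg hx (Multiplicative.ofAdd ⟨w, hw⟩) : ↥(E Q)) : V ≃ₗ[F] V) y = (-(Q w * polar Q x y)) • x := by
  have hyx : polar Q y x = polar Q x y := by rw [polar_comm]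
  have hxw : polar Q w x = 0 := by rw [polar_comm]; exact hw
  have hyw : polar Q y w = 0 := by rw [polar_comm]; exact hwy
  have hxx : polar Q x x = 0 := polar_self_of_sing hx
  have hyy : polar Q y y = 0 := polar_self_of_sing hy
  have hww : polar Q w w = Q w + Q w := by rw [polar_self]; simp [two_smul]
  have hxw' : polar Q x w = 0 := hw
  set κ := Q w
  set β := polar Q x y
  have a1 : ((sg hx (Multiplicative.ofAdd ⟨w, hw⟩) : ↥(E Q)) : V ≃ₗ[F] V) x = x := by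
    rw [sg_apply, hxx, hxw]; simp
  have a2 : ((sg hx (Multiplicative.ofAdd ⟨w, hw⟩) : ↥(E Q)) : V ≃ₗ[F] V) y = y + β • w - (κ * β) • x := by
    rw [sg_apply, hwy]; simp [κ, β]
  have a3 : ((sg hx (Multiplicative.ofAdd ⟨w, hw⟩) : ↥(E Q)) : V ≃ₗ[F] V) w = w - (κ + κ) • x := by
    rw [sg_apply, hww, hxw']; simp [κ]
  have a4 : ((sg hy (Multiplicative.ofAdd ⟨b • w, hw'⟩) : ↥(E Q)) : V ≃ₗ[F] V) x =
      x + (β * b) • w - (b * b * κ * β) • y := by
    rw [sg_apply, hyx, polar_smul_left, hxw, QuadraticMap.map_smul]; simp [κ, β, smul_smul]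
  have a5 : ((sg hy (Multiplicative.ofAdd ⟨b • w, hw'⟩) : ↥(E Q)) : V ≃ₗ[F] V) y = y := by
    rw [sg_apply, hyy, polar_smul_left, hwy]; simp
  have a6 : ((sg hy (Multiplicative.ofAdd ⟨b • w, hw'⟩) : ↥(E Q)) : V ≃ₗ[F] V) w = w - (b * (κ + κ)) • y := by
    rw [sg_apply, hyw, polar_smul_left, hww]; simp [κ]
  have hb' : b * κ * β = 1 := by rw [← hb]; ring
  constructor
  · change ((sg hx (Multiplicative.ofAdd ⟨w, hw⟩) : ↥(E Q)) : V ≃ₗ[F] V)
      (((sg hy (Multiplicative.ofAdd ⟨b • w, hw'⟩) : ↥(E Q)) : V ≃ₗ[F] V)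
        (((sg hx (Multiplicative.ofAdd ⟨w, hw⟩) : ↥(E Q)) : V ≃ₗ[F] V) x)) = _
    rw [a1, a4, map_sub, map_add, map_smul, map_smul, a1, a2, a3]
    have e1 : b * b * κ * β = b := by
      have : b * b * κ * β = b * (b * κ * β) := by ring
      rw [this, hb', mul_one]
    rw [e1]
    have e2 : x + (β * b) • (w - (κ + κ) • x) - b • (y + β • w - (κ * β) • x) =
        (1 - b * κ * β) • x + (-b) • y := by module
    rw [e2, hb', sub_self, zero_smul, zero_add]
  · change ((sg hx (Multiplicative.ofAdd ⟨w, hw⟩) : ↥(E Q)) : V ≃ₗ[F] V)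
      (((sg hy (Multiplicative.ofAdd ⟨b • w, hw'⟩) : ↥(E Q)) : V ≃ₗ[F] V)
        (((sg hx (Multiplicative.ofAdd ⟨w, hw⟩) : ↥(E Q)) : V ≃ₗ[F] V) y)) = _
    rw [a2, map_sub, map_add, map_smul, map_smul, a4, a5, a6]
    have e2 : y + β • (w - (b * (κ + κ)) • y) - (κ * β) • (x + (β * b) • w - (b * b * κ * β) • y) =
        (1 - 2 * (b * κ * β) + (b * κ * β) * (b * κ * β)) • y + (β * (1 - b * κ * β)) • w + (-(κ * β)) • x := by module
    rw [e2, hb', map_add, map_add, map_smul, map_smul, map_smul, a1]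
    norm_num

/-- **The step.** -/
theorem step [Finite V] (hG : Good Q) {P₀ : Subgroup (P Q)} (hP : Odd (Nat.card P₀)) {A : Submodule F V}
    (hA : ∀ g : ↥(E Q), (QuotientGroup.mk g : P Q) ∈ P₀ → ∀ a ∈ A, (g : V ≃ₗ[F] V) a ∈ A) {x : V}
    (hx : Q x = 0) (hxA : x ∉ A) (hAx : ∀ a ∈ A, polar Q x a = 0)
    (hN : 2 * finrank F A + 3 ≤ finrank F V)
    (hS : ∀ (w : V) (hw : w ∈ pp Q x), (∀ a ∈ A, polar Q w a = 0) →
      (QuotientGroup.mk (sg hx (Multiplicative.ofAdd ⟨w, hw⟩)) : P Q) ∈ P₀) :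
    ∀ g : ↥(E Q), (QuotientGroup.mk g : P Q) ∈ P₀ → ∀ a ∈ A ⊔ Submodule.span F {x},
      (g : V ≃ₗ[F] V) a ∈ A ⊔ Submodule.span F {x} := by
  have hfd : FiniteDimensional F V := inferInstance
  intro g hg
  have hgi : (QuotientGroup.mk g⁻¹ : P Q) ∈ P₀ := P₀.inv_mem hg
  suffices hgx : (g : V ≃ₗ[F] V) x ∈ A ⊔ Submodule.span F {x} by
    intro a ha
    obtain ⟨a1, ha1, a2, ha2, rfl⟩ := Submodule.mem_sup.1 ha
    obtain ⟨c, rfl⟩ := Submodule.mem_span_singleton.1 ha2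
    rw [map_add, map_smul]
    exact add_mem (Submodule.mem_sup_left (hA g hg a1 ha1)) (Submodule.smul_mem _ _ hgx)
  obtain ⟨y, hy⟩ : ∃ y, y = (g : V ≃ₗ[F] V) x := ⟨_, rfl⟩
  rw [← hy]
  have hQy : Q y = 0 := by rw [hy, mem_O.1 (E_le_O g.2), hx]
  have hAy : ∀ a ∈ A, polar Q y a = 0 := by
    intro a ha
    have h1 := hA g⁻¹ hgi a ha
    have h2 : (g : V ≃ₗ[F] V) (((g⁻¹ : ↥(E Q)) : V ≃ₗ[F] V) a) = a := (g : V ≃ₗ[F] V).apply_symm_apply a
    rw [hy, ← h2, polar_map (E_le_O g.2)]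
    exact hAx _ h1
  have hyA : y ∉ A := by
    intro h
    have h1 := hA g⁻¹ hgi y h
    have h2 : ((g⁻¹ : ↥(E Q)) : V ≃ₗ[F] V) y = x := by
      rw [hy]
      exact (g : V ≃ₗ[F] V).symm_apply_apply x
    rw [h2] at h1
    exact hxA h1
  have hSy : ∀ (w : V) (hw : w ∈ pp Q y), (∀ a ∈ A, polar Q w a = 0) →
      (QuotientGroup.mk (sg hQy (Multiplicative.ofAdd ⟨w, hw⟩)) : P Q) ∈ P₀ := by
    intro w hw hwA
    obtain ⟨w₀, hw₀⟩ : ∃ w₀, w₀ = ((g⁻¹ : ↥(E Q)) : V ≃ₗ[F] V) w := ⟨_, rfl⟩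
    have h1 : (g : V ≃ₗ[F] V) w₀ = w := by
      rw [hw₀]
      exact (g : V ≃ₗ[F] V).apply_symm_apply w
    have h2 : w₀ ∈ pp Q x := by
      rw [mem_pp] at hw ⊢
      rw [← polar_map (E_le_O g.2), h1, ← hy]
      exact hw
    have h3 : ∀ a ∈ A, polar Q w₀ a = 0 := by
      intro a ha
      rw [← polar_map (E_le_O g.2), h1]
      exact hwA _ (hA g hg a ha)
    have h4 := hS w₀ h2 h3
    have h5 : Q ((g : V ≃ₗ[F] V) x) = 0 := by rw [← hy]; exact hQy
    have h6 : (g : V ≃ₗ[F] V) w₀ ∈ pp Q ((g : V ≃ₗ[F] V) x) := by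
      rw [h1, ← hy]; exact hw
    have h7 := conj_sg' hx h2 g h5 h6
    have h8 : sg hQy (Multiplicative.ofAdd ⟨w, hw⟩) = sg h5 (Multiplicative.ofAdd ⟨(g : V ≃ₗ[F] V) w₀, h6⟩) := by
      apply Subtype.ext
      rw [sg_coe, sg_coe]
      congr 1
      exact h1.symm
    rw [h8, ← h7]
    exact P₀.mul_mem (P₀.mul_mem hg h4) hgi
  by_contra hcon
  have hx0 : x ≠ 0 := fun h => hxA (h ▸ A.zero_mem)
  have hyx : y ∉ Submodule.span F {x} := fun h => hcon (Submodule.mem_sup_right h)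
  by_cases hxy : polar Q x y = 0
  · obtain ⟨w, hwB, hwy⟩ := exists_sep_sub hG.nondeg hcon
    have hwx : w ∈ pp Q x := by
      rw [mem_pp]
      exact hwB x (Submodule.mem_sup_right (Submodule.mem_span_singleton_self x))
    have hwA : ∀ a ∈ A, polar Q w a = 0 := fun a ha => by
      rw [polar_comm]
      exact hwB a (Submodule.mem_sup_left ha)
    have hcon' : x ∉ A ⊔ Submodule.span F {y} := by
      intro h
      obtain ⟨a, ha, b, hb, hab⟩ := Submodule.mem_sup.1 h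
      obtain ⟨c, rfl⟩ := Submodule.mem_span_singleton.1 hb
      by_cases hc : c = 0
      · rw [hc, zero_smul, add_zero] at hab
        exact hxA (hab ▸ ha)
      · apply hcon
        have h1 : y = -(c⁻¹ • a) + c⁻¹ • x := by
          rw [← hab, smul_add, smul_smul, inv_mul_cancel₀ hc, one_smul]
          abel
        rw [h1]
        exact add_mem (neg_mem (Submodule.smul_mem _ _ (Submodule.mem_sup_left ha)))
          (Submodule.smul_mem _ _ (Submodule.mem_sup_right (Submodule.mem_span_singleton_self x)))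
    obtain ⟨w', hwB', hwx'⟩ := exists_sep_sub hG.nondeg hcon'
    have hwy' : -w' ∈ pp Q y := by
      apply neg_mem
      rw [mem_pp]
      exact hwB' y (Submodule.mem_sup_right (Submodule.mem_span_singleton_self y))
    have hwA' : ∀ a ∈ A, polar Q (-w') a = 0 := fun a ha => by
      rw [polar_neg_left, polar_comm, hwB' a (Submodule.mem_sup_left ha), neg_zero]
    obtain ⟨h1, h2⟩ := swap_one hx hQy hwx hwy' hxy hwy (by rw [polar_neg_left, hwx'])
    refine hyx (no_swap hG hP ?_ one_ne_zero h1 h2)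
    exact P₀.mul_mem (P₀.mul_mem (hS _ _ hwA) (hSy _ _ hwA')) (hS _ _ hwA)
  · -- the hyperbolic case
    have key : ∃ w, Q w ≠ 0 ∧ ∀ b ∈ A ⊔ Submodule.span F {x} ⊔ Submodule.span F {y}, polar Q b w = 0 := by
      by_contra hno
      push Not at hno
      obtain ⟨C, hC⟩ : ∃ C, C = A ⊔ Submodule.span F {x} ⊔ Submodule.span F {y} := ⟨_, rfl⟩
      rw [← hC] at hno
      have hxC : x ∈ C := by
        rw [hC]
        exact Submodule.mem_sup_left (Submodule.mem_sup_right (Submodule.mem_span_singleton_self x))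
      have hyC : y ∈ C := by
        rw [hC]
        exact Submodule.mem_sup_right (Submodule.mem_span_singleton_self y)
      have hAC : A ≤ C := by
        rw [hC]
        exact le_sup_left.trans le_sup_left
      -- singular vectors
      have hsing : ∀ w, (∀ b ∈ C, polar Q b w = 0) → Q w = 0 := by
        intro w hw
        by_contra hne
        obtain ⟨b, hb, hbw⟩ := hno w hne
        exact hbw (hw b hb)
      have hBC : ∀ w, (∀ b ∈ C, polar Q b w = 0) → w ∈ C := by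
        intro w hw
        by_contra hwC
        obtain ⟨w', hw', hww'⟩ := exists_sep_sub hG.nondeg hwC
        have h1 := hsing w hw
        have h2 := hsing w' hw'
        have h3 := hsing (w' + w) (fun b hb => by rw [polar_add_right, hw' b hb, hw b hb, add_zero])
        have h4 : polar Q w' w = Q (w' + w) - Q w' - Q w := rfl
        rw [h1, h2, h3] at h4
        rw [h4] at hww'
        simp at hww'
      have hBA : ∀ w, (∀ b ∈ C, polar Q b w = 0) → w ∈ A := by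
        intro w hw
        have h1 := hBC w hw
        rw [hC] at h1
        obtain ⟨z, hz, b, hb, rfl⟩ := Submodule.mem_sup.1 h1
        obtain ⟨a, ha, c, hc, rfl⟩ := Submodule.mem_sup.1 hz
        obtain ⟨α, rfl⟩ := Submodule.mem_span_singleton.1 hc
        obtain ⟨β, rfl⟩ := Submodule.mem_span_singleton.1 hb
        have h2 := hw x hxC
        have h3 := hw y hyC
        rw [polar_add_right, polar_add_right, polar_smul_right, polar_smul_right, hAx a ha,
          polar_self_of_sing hx] at h2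
        rw [polar_add_right, polar_add_right, polar_smul_right, polar_smul_right, hAy a ha,
          polar_self_of_sing hQy, polar_comm Q y x] at h3
        have h4 : β = 0 := by
          simpa [hxy] using h2
        have h5 : α = 0 := by
          simpa [hxy] using h3
        rw [h4, h5]
        simpa using ha
      have h1 := finrank_perp hG C
      have h2 : LinearMap.BilinForm.orthogonal (polarBilin Q) C ≤ A := by
        intro w hw
        exact hBA w (fun b hb => hw b hb)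
      have h3 := Submodule.finrank_mono h2
      have h4 : finrank F C ≤ finrank F A + 2 := by
        rw [hC]
        have e1 := Submodule.finrank_add_le_finrank_add_finrank (A ⊔ Submodule.span F {x}) (Submodule.span F {y})
        have e2 := Submodule.finrank_add_le_finrank_add_finrank A (Submodule.span F {x})
        have e3 := finrank_span_singleton (K := F) hx0
        have e4 : finrank F (Submodule.span F {y}) ≤ 1 := by
          simpa using finrank_span_le_card (R := F) ({y} : Set V)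
        omega
      omega
    obtain ⟨w, hw0, hwB⟩ := key
    have hwx : w ∈ pp Q x := by
      rw [mem_pp]
      exact hwB x (Submodule.mem_sup_left (Submodule.mem_sup_right (Submodule.mem_span_singleton_self x)))
    have hyw : polar Q y w = 0 := hwB y (Submodule.mem_sup_right (Submodule.mem_span_singleton_self y))
    have hwA : ∀ a ∈ A, polar Q w a = 0 := fun a ha => by
      rw [polar_comm]
      exact hwB a (Submodule.mem_sup_left (Submodule.mem_sup_left ha))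
    obtain ⟨b, hb⟩ : ∃ b, b = (Q w * polar Q x y)⁻¹ := ⟨_, rfl⟩
    have hb0 : b ≠ 0 := by rw [hb]; exact inv_ne_zero (mul_ne_zero hw0 hxy)
    have hb1 : Q w * polar Q x y * b = 1 := by rw [hb]; exact mul_inv_cancel₀ (mul_ne_zero hw0 hxy)
    have hbw : b • w ∈ pp Q y := (pp Q y).smul_mem b hyw
    have hbA : ∀ a ∈ A, polar Q (b • w) a = 0 := fun a ha => by rw [polar_smul_left, hwA a ha, smul_zero]
    obtain ⟨h1, h2⟩ := swap_two hx hQy hwx hbw (by rw [polar_comm]; exact hyw) hb1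
    refine hyx (no_swap hG hP ?_ (neg_ne_zero.2 hb0) h1 h2)
    exact P₀.mul_mem (P₀.mul_mem (hS _ _ hwA) (hSy _ _ hbA)) (hS _ _ hwA)

/-! ### the group induced on a totally singular subspace -/

theorem exists_transv [FiniteDimensional F V] (hG : Good Q) {W : Submodule F V} (hW : TS Q W) {B : Submodule F V}
    (hB : B ≤ W) {u z : V} (hu : u ∈ W) (hz : z ∈ W) (huB : u ∉ B) (hzB : z ∉ B ⊔ Submodule.span F {u}) :
    ∃ g : ↥(E Q), (∀ w ∈ W, (g : V ≃ₗ[F] V) w ∈ W) ∧ (∀ b ∈ B, (g : V ≃ₗ[F] V) b = b) ∧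
      (g : V ≃ₗ[F] V) u = z := by
  obtain ⟨t, ht⟩ : ∃ t, t = z - u := ⟨_, rfl⟩
  have htW : t ∈ W := by rw [ht]; exact W.sub_mem hz hu
  have hQt : Q t = 0 := hW t htW
  have huB' : u ∉ B ⊔ Submodule.span F {t} := by
    intro h
    obtain ⟨b, hb, c', hc', hbc⟩ := Submodule.mem_sup.1 h
    obtain ⟨c, rfl⟩ := Submodule.mem_span_singleton.1 hc'
    by_cases hc : c = 0
    · rw [hc, zero_smul, add_zero] at hbc
      exact huB (hbc ▸ hb)
    · apply hzB
      have h1 : z = -(c⁻¹ • b) + (c⁻¹ + 1) • u := by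
        have h2 : c • z = (1 + c) • u - b := by
          have h3 : u = b + c • (z - u) := by rw [← ht]; exact hbc.symm
          have h4 : c • (z - u) = u - b := by
            nth_rewrite 2 [h3]
            abel
          have h5 : (1 + c) • u - b = c • u + (u - b) := by module
          rw [h5, ← h4, smul_sub]
          abel
        have h3 : z = c⁻¹ • c • z := by rw [smul_smul, inv_mul_cancel₀ hc, one_smul]
        rw [h3, h2, smul_sub, smul_smul, mul_add, mul_one, inv_mul_cancel₀ hc]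
        abel
      rw [h1]
      exact add_mem (neg_mem (Submodule.smul_mem _ _ (Submodule.mem_sup_left hb)))
        (Submodule.smul_mem _ _ (Submodule.mem_sup_right (Submodule.mem_span_singleton_self u)))
  obtain ⟨w, hwB, hwu⟩ := exists_sep_sub hG.nondeg huB'
  have hwt : -w ∈ pp Q t := by
    apply neg_mem
    rw [mem_pp]
    exact hwB t (Submodule.mem_sup_right (Submodule.mem_span_singleton_self t))
  have happ : ∀ v ∈ W, ((sg hQt (Multiplicative.ofAdd ⟨-w, hwt⟩) : ↥(E Q)) : V ≃ₗ[F] V) v = v + polar Q w v • t := by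
    intro v hv
    rw [sg_apply, hW.polar htW hv, polar_neg_left]
    simp
  refine ⟨sg hQt (Multiplicative.ofAdd ⟨-w, hwt⟩), fun v hv => ?_, fun b hb => ?_, ?_⟩
  · rw [happ v hv]
    exact W.add_mem hv (W.smul_mem _ htW)
  · rw [happ b (hB hb), polar_comm, hwB b (Submodule.mem_sup_left hb), zero_smul, add_zero]
  · rw [happ u hu, hwu, one_smul, ht]
    abel

/-- transitivity on the flags -/
theorem exists_flag_map [FiniteDimensional F V] (hG : Good Q) {W : Submodule F V} (hW : TS Q W) {y₁ y₂ z₁ z₂ : V}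
    (hy₁ : y₁ ∈ W) (hy₂ : y₂ ∈ W) (hz₁ : z₁ ∈ W) (hz₂ : z₂ ∈ W) (hy0 : y₁ ≠ 0) (hy : y₂ ∉ Submodule.span F {y₁})
    (hz0 : z₁ ≠ 0) (hz : z₂ ∉ Submodule.span F {z₁}) :
    ∃ g : ↥(E Q), (∀ w ∈ W, (g : V ≃ₗ[F] V) w ∈ W) ∧ (g : V ≃ₗ[F] V) y₁ ∈ Submodule.span F {z₁} ∧
      (g : V ≃ₗ[F] V) y₂ ∈ Submodule.span F {z₁} ⊔ Submodule.span F {z₂} := by
  -- step one
  have h1 : ∃ g : ↥(E Q), (∀ w ∈ W, (g : V ≃ₗ[F] V) w ∈ W) ∧ (g : V ≃ₗ[F] V) y₁ ∈ Submodule.span F {z₁} := by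
    by_cases h : z₁ ∈ Submodule.span F {y₁}
    · refine ⟨1, fun w hw => hw, ?_⟩
      obtain ⟨c, hc⟩ := Submodule.mem_span_singleton.1 h
      have hc0 : c ≠ 0 := by
        rintro rfl
        rw [zero_smul] at hc
        exact hz0 hc.symm
      change y₁ ∈ _
      rw [Submodule.mem_span_singleton]
      exact ⟨c⁻¹, by rw [← hc, smul_smul, inv_mul_cancel₀ hc0, one_smul]⟩
    · obtain ⟨g, hg, -, hgy⟩ := exists_transv hG hW (B := ⊥) bot_le hy₁ hz₁ (by rwa [Submodule.mem_bot])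
        (by rwa [bot_sup_eq])
      exact ⟨g, hg, by rw [hgy]; exact Submodule.mem_span_singleton_self _⟩
  obtain ⟨g, hg, hgy⟩ := h1
  obtain ⟨c, hc⟩ := Submodule.mem_span_singleton.1 hgy
  have hc0 : c ≠ 0 := by
    rintro rfl
    rw [zero_smul] at hc
    exact hy0 ((g : V ≃ₗ[F] V).map_eq_zero_iff.1 hc.symm)
  obtain ⟨u, hu⟩ : ∃ u, u = (g : V ≃ₗ[F] V) y₂ := ⟨_, rfl⟩
  have huW : u ∈ W := by rw [hu]; exact hg _ hy₂
  have huz : u ∉ Submodule.span F {z₁} := by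
    intro h
    obtain ⟨d, hd⟩ := Submodule.mem_span_singleton.1 h
    apply hy
    rw [Submodule.mem_span_singleton]
    refine ⟨d * c⁻¹, (g : V ≃ₗ[F] V).injective ?_⟩
    rw [map_smul, ← hc, smul_smul, mul_assoc, inv_mul_cancel₀ hc0, mul_one, hd, hu]
  by_cases h : z₂ ∈ Submodule.span F {z₁} ⊔ Submodule.span F {u}
  · refine ⟨g, hg, hgy, ?_⟩
    rw [← hu]
    obtain ⟨a, ha, b, hb, hab⟩ := Submodule.mem_sup.1 h
    obtain ⟨d, rfl⟩ := Submodule.mem_span_singleton.1 hb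
    have hd0 : d ≠ 0 := by
      rintro rfl
      rw [zero_smul, add_zero] at hab
      exact hz (hab ▸ ha)
    have h2 : u = -(d⁻¹ • a) + d⁻¹ • z₂ := by
      rw [← hab, smul_add, smul_smul, inv_mul_cancel₀ hd0, one_smul]
      abel
    rw [h2]
    exact add_mem (neg_mem (Submodule.smul_mem _ _ (Submodule.mem_sup_left ha)))
      (Submodule.smul_mem _ _ (Submodule.mem_sup_right (Submodule.mem_span_singleton_self _)))
  · obtain ⟨k, hk, hkz, hku⟩ := exists_transv hG hW (B := Submodule.span F {z₁})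
      (by rw [Submodule.span_singleton_le_iff_mem]; exact hz₁) huW hz₂ huz h
    refine ⟨k * g, fun w hw => hk _ (hg w hw), ?_, ?_⟩
    · change (k : V ≃ₗ[F] V) ((g : V ≃ₗ[F] V) y₁) ∈ _
      rw [hkz _ hgy]
      exact hgy
    · change (k : V ≃ₗ[F] V) ((g : V ≃ₗ[F] V) y₂) ∈ _
      rw [← hu, hku]
      exact Submodule.mem_sup_right (Submodule.mem_span_singleton_self _)

/-! ### the `p`-group -/

/-- the stabilizer of a vector -/
def fixV (Q : QuadraticForm F V) (u : V) : Subgroup ↥(E Q) where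
  carrier := {g | (g : V ≃ₗ[F] V) u = u}
  one_mem' := rfl
  mul_mem' := fun {a b} ha hb => by
    change (a : V ≃ₗ[F] V) ((b : V ≃ₗ[F] V) u) = u
    rw [Set.mem_ofPred_eq] at ha hb
    rw [hb, ha]
  inv_mem' := fun {a} ha => by
    change (a : V ≃ₗ[F] V).symm u = u
    rw [Set.mem_ofPred_eq] at ha
    rw [LinearEquiv.symm_apply_eq, ha]

theorem mem_fixV {u : V} {g : ↥(E Q)} : g ∈ fixV Q u ↔ (g : V ≃ₗ[F] V) u = u := Iff.rfl

theorem sg_mem_fixV {u w x : V} (hu : Q u = 0) (hw : w ∈ pp Q u) (hux : polar Q u x = 0) (hwx : polar Q w x = 0) :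
    sg hu (Multiplicative.ofAdd ⟨w, hw⟩) ∈ fixV Q x := by
  rw [mem_fixV, sg_apply, hux, hwx]
  simp

/-- the `p`-group of a flag -/
theorem isPGroup_flag [Finite V] {p : ℕ} [Fact p.Prime] (hpF : (p : F) = 0) {x₁ x₂ x₃ : V} (h₁ : Q x₁ = 0) (h₂ : Q x₂ = 0)
    (h₃ : Q x₃ = 0) :
    IsPGroup p ↥((AA h₃ ⊓ fixV Q x₁ ⊓ fixV Q x₂) ⊔ (AA h₂ ⊓ fixV Q x₁) ⊔ AA h₁) := by
  have p₁ : IsPGroup p (AA h₁) := isPGroup_AA hpF h₁
  have p₂ : IsPGroup p ↥(AA h₂ ⊓ fixV Q x₁) := (isPGroup_AA hpF h₂).to_le inf_le_left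
  have p₃ : IsPGroup p ↥(AA h₃ ⊓ fixV Q x₁ ⊓ fixV Q x₂) :=
    (isPGroup_AA hpF h₃).to_le (inf_le_left.trans inf_le_left)
  have q₂ : IsPGroup p ↥((AA h₃ ⊓ fixV Q x₁ ⊓ fixV Q x₂) ⊔ (AA h₂ ⊓ fixV Q x₁)) := by
    refine p₃.to_sup_of_normal_right' p₂ ?_
    have e1 : AA h₃ ⊓ fixV Q x₁ ⊓ fixV Q x₂ ≤ Subgroup.normalizer ((AA h₂ : Subgroup ↥(E Q)) : Set ↥(E Q)) :=
      le_normalizer_AA h₂ fun g hg => hg.2
    have e2 : AA h₃ ⊓ fixV Q x₁ ⊓ fixV Q x₂ ≤ Subgroup.normalizer ((fixV Q x₁ : Subgroup ↥(E Q)) : Set ↥(E Q)) :=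
      (inf_le_left.trans inf_le_right).trans Subgroup.le_normalizer
    exact (le_inf e1 e2).trans Subgroup.inf_normalizer_le_normalizer_inf
  refine q₂.to_sup_of_normal_right' p₁ ?_
  refine le_normalizer_AA h₁ fun g hg => ?_
  have : (AA h₃ ⊓ fixV Q x₁ ⊓ fixV Q x₂) ⊔ (AA h₂ ⊓ fixV Q x₁) ≤ fixV Q x₁ :=
    sup_le (inf_le_left.trans inf_le_right) inf_le_right
  exact this hg

/-! ### the main argument -/

theorem notMem_two {y₁ y₂ y₃ : V} (hind' : LinearIndependent F ![y₁, y₂, y₃]) : y₂ ∉ Submodule.span F {y₁} := by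
  intro h
  obtain ⟨c, hc⟩ := Submodule.mem_span_singleton.1 h
  have h1 := Fintype.linearIndependent_iff.1 hind' ![c, -1, 0] (by simp [Fin.sum_univ_three, hc]) 1
  simp at h1

theorem notMem_three {y₁ y₂ y₃ : V} (hind' : LinearIndependent F ![y₁, y₂, y₃]) :
    y₃ ∉ Submodule.span F {y₁} ⊔ Submodule.span F {y₂} := by
  intro h
  obtain ⟨a, ha, b, hb, hab⟩ := Submodule.mem_sup.1 h
  obtain ⟨c, rfl⟩ := Submodule.mem_span_singleton.1 ha
  obtain ⟨d, rfl⟩ := Submodule.mem_span_singleton.1 hb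
  have h1 := Fintype.linearIndependent_iff.1 hind' ![c, d, -1] (by simp [Fin.sum_univ_three, hab]) 2
  simp at h1

section main

variable [Finite V] [Finite F]

/-- a `p`-subgroup of `E Q` is conjugate into `P₀` -/
theorem exists_conj {p : ℕ} [hp : Fact p.Prime] {P₀ : Subgroup (P Q)} (hPv : v p P₀ = v p (P Q))
    {X : Subgroup ↥(E Q)} (hX : IsPGroup p X) :
    ∃ g : ↥(E Q), ∀ s ∈ X, (QuotientGroup.mk (g * s * g⁻¹) : P Q) ∈ P₀ := by
  have hfin : Finite ↥(E Q) := finite_E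
  obtain ⟨T⟩ : Nonempty (Sylow p ↥P₀) := inferInstance
  have hT : IsPGroup p ↥((T : Subgroup ↥P₀).map P₀.subtype) := T.isPGroup'.map _
  have hTc : Nat.card ↥((T : Subgroup ↥P₀).map P₀.subtype) = p ^ (Nat.card (P Q)).factorization p := by
    rw [Cfsg.Agent.H160.PD.card_map_subtype, T.card_eq_multiplicity]
    exact congrArg (p ^ ·) hPv
  obtain ⟨S, hS⟩ := (hX.map (QuotientGroup.mk' (Subgroup.center ↥(E Q)))).exists_le_sylow
  let T' : Sylow p (P Q) := Sylow.ofCard _ hTc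
  obtain ⟨x, hx⟩ := MulAction.exists_smul_eq (P Q) S T'
  obtain ⟨g, rfl⟩ := QuotientGroup.mk_surjective x
  refine ⟨g, fun s hs => ?_⟩
  have h1 : (QuotientGroup.mk s : P Q) ∈ S := hS ⟨s, hs, rfl⟩
  have h2 : (QuotientGroup.mk g : P Q) * QuotientGroup.mk s * (QuotientGroup.mk g : P Q)⁻¹ ∈ T' := by
    rw [← hx]
    exact ⟨_, h1, rfl⟩
  have h3 : (QuotientGroup.mk g : P Q) * QuotientGroup.mk s * (QuotientGroup.mk g : P Q)⁻¹ ∈
      (T : Subgroup ↥P₀).map P₀.subtype := h2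
  obtain ⟨w, -, hw⟩ := h3
  change (QuotientGroup.mk g : P Q) * QuotientGroup.mk s * (QuotientGroup.mk g : P Q)⁻¹ ∈ P₀
  rw [← hw]
  exact w.2

set_option maxHeartbeats 1000000 in
/-- `P₀` fixes a flag -/
theorem exists_fixed_flag (hG : Good Q) {p : ℕ} [hp : Fact p.Prime] (hpF : (p : F) = 0) (hN : 7 ≤ finrank F V)
    (hW : ∃ W : Submodule F V, TS Q W ∧ finrank F W = 3) {P₀ : Subgroup (P Q)} (hP : Odd (Nat.card P₀))
    (hPv : v p P₀ = v p (P Q)) :
    ∃ y₁ y₂ y₃ : V, LinearIndependent F ![y₁, y₂, y₃] ∧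
      TS Q ((Submodule.span F {y₁} ⊔ Submodule.span F {y₂}) ⊔ Submodule.span F {y₃}) ∧
      (∀ h : ↥(E Q), (QuotientGroup.mk h : P Q) ∈ P₀ → ∀ a ∈ Submodule.span F {y₁},
        (h : V ≃ₗ[F] V) a ∈ Submodule.span F {y₁}) ∧
      (∀ h : ↥(E Q), (QuotientGroup.mk h : P Q) ∈ P₀ → ∀ a ∈ Submodule.span F {y₁} ⊔ Submodule.span F {y₂},
        (h : V ≃ₗ[F] V) a ∈ Submodule.span F {y₁} ⊔ Submodule.span F {y₂}) ∧
      ∀ h : ↥(E Q), (QuotientGroup.mk h : P Q) ∈ P₀ →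
        ∀ a ∈ (Submodule.span F {y₁} ⊔ Submodule.span F {y₂}) ⊔ Submodule.span F {y₃},
        (h : V ≃ₗ[F] V) a ∈ (Submodule.span F {y₁} ⊔ Submodule.span F {y₂}) ⊔ Submodule.span F {y₃} := by
  have hfin : Finite ↥(E Q) := finite_E
  have hfd : FiniteDimensional F V := inferInstance
  -- the flag
  obtain ⟨W₀, hW₀, hd₀⟩ := hW
  let b := Module.finBasisOfFinrankEq F W₀ hd₀
  obtain ⟨x₁, hx₁⟩ : ∃ x : V, x = b 0 := ⟨_, rfl⟩
  obtain ⟨x₂, hx₂⟩ : ∃ x : V, x = b 1 := ⟨_, rfl⟩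
  obtain ⟨x₃, hx₃⟩ : ∃ x : V, x = b 2 := ⟨_, rfl⟩
  have m₁ : x₁ ∈ W₀ := by rw [hx₁]; exact (b 0).2
  have m₂ : x₂ ∈ W₀ := by rw [hx₂]; exact (b 1).2
  have m₃ : x₃ ∈ W₀ := by rw [hx₃]; exact (b 2).2
  have hind : LinearIndependent F ![x₁, x₂, x₃] := by
    have h1 := b.linearIndependent.map' W₀.subtype (Submodule.ker_subtype _)
    have h2 : (W₀.subtype ∘ b) = ![x₁, x₂, x₃] := by
      ext i
      fin_cases i
      · exact hx₁.symm
      · exact hx₂.symm
      · exact hx₃.symm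
    rwa [h2] at h1
  have s₁ : Q x₁ = 0 := hW₀ _ m₁
  have s₂ : Q x₂ = 0 := hW₀ _ m₂
  have s₃ : Q x₃ = 0 := hW₀ _ m₃
  obtain ⟨g, hg⟩ := exists_conj hPv (isPGroup_flag hpF s₁ s₂ s₃)
  -- the conjugate flag
  obtain ⟨y₁, hy₁⟩ : ∃ y, y = (g : V ≃ₗ[F] V) x₁ := ⟨_, rfl⟩
  obtain ⟨y₂, hy₂⟩ : ∃ y, y = (g : V ≃ₗ[F] V) x₂ := ⟨_, rfl⟩
  obtain ⟨y₃, hy₃⟩ : ∃ y, y = (g : V ≃ₗ[F] V) x₃ := ⟨_, rfl⟩
  have t₁ : Q y₁ = 0 := by rw [hy₁, mem_O.1 (E_le_O g.2), s₁]
  have t₂ : Q y₂ = 0 := by rw [hy₂, mem_O.1 (E_le_O g.2), s₂]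
  have t₃ : Q y₃ = 0 := by rw [hy₃, mem_O.1 (E_le_O g.2), s₃]
  have p₁₂ : polar Q y₁ y₂ = 0 := by rw [hy₁, hy₂, polar_map (E_le_O g.2)]; exact hW₀.polar m₁ m₂
  have p₁₃ : polar Q y₁ y₃ = 0 := by rw [hy₁, hy₃, polar_map (E_le_O g.2)]; exact hW₀.polar m₁ m₃
  have p₂₃ : polar Q y₂ y₃ = 0 := by rw [hy₂, hy₃, polar_map (E_le_O g.2)]; exact hW₀.polar m₂ m₃
  have hind' : LinearIndependent F ![y₁, y₂, y₃] := by
    have h1 := hind.map' ((g : V ≃ₗ[F] V) : V →ₗ[F] V) (LinearMap.ker_eq_bot.2 (g : V ≃ₗ[F] V).injective)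
    have h2 : (((g : V ≃ₗ[F] V) : V →ₗ[F] V) ∘ ![x₁, x₂, x₃]) = ![y₁, y₂, y₃] := by
      ext i
      fin_cases i
      · exact hy₁.symm
      · exact hy₂.symm
      · exact hy₃.symm
    rwa [h2] at h1
  have hmem : ∀ {x y w : V} (hx : Q x = 0) (hy : Q y = 0) (hxy : y = (g : V ≃ₗ[F] V) x) (hw : w ∈ pp Q y)
      (hw' : (g : V ≃ₗ[F] V).symm w ∈ pp Q x),
      (QuotientGroup.mk (g * sg hx (Multiplicative.ofAdd ⟨(g : V ≃ₗ[F] V).symm w, hw'⟩) * g⁻¹) : P Q) ∈ P₀ →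
      (QuotientGroup.mk (sg hy (Multiplicative.ofAdd ⟨w, hw⟩)) : P Q) ∈ P₀ := by
    intro x y w hx hy hxy hw hw' h
    subst hxy
    have h1 : (g : V ≃ₗ[F] V) ((g : V ≃ₗ[F] V).symm w) = w := (g : V ≃ₗ[F] V).apply_symm_apply w
    have h2 : (g : V ≃ₗ[F] V) ((g : V ≃ₗ[F] V).symm w) ∈ pp Q ((g : V ≃ₗ[F] V) x) := by rw [h1]; exact hw
    rw [conj_sg' hx hw' g hy h2] at h
    have h3 : sg hy (Multiplicative.ofAdd ⟨w, hw⟩) =
        sg hy (Multiplicative.ofAdd ⟨(g : V ≃ₗ[F] V) ((g : V ≃ₗ[F] V).symm w), h2⟩) := by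
      apply Subtype.ext
      rw [sg_coe, sg_coe]
      congr 1
      exact h1.symm
    rw [h3]
    exact h
  have hpol : ∀ {x y w : V} (hxy : y = (g : V ≃ₗ[F] V) x), polar Q w y = polar Q ((g : V ≃ₗ[F] V).symm w) x := by
    rintro x _ w rfl
    rw [← polar_map (E_le_O g.2) ((g : V ≃ₗ[F] V).symm w) x, LinearEquiv.apply_symm_apply]
  have hpp : ∀ {x y w : V} (hxy : y = (g : V ≃ₗ[F] V) x), w ∈ pp Q y → (g : V ≃ₗ[F] V).symm w ∈ pp Q x := by
    intro x y w hxy hw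
    rw [mem_pp] at hw ⊢
    rw [polar_comm] at hw ⊢
    rw [← hpol hxy]
    exact hw
  have i₁ : y₁ ≠ 0 := hind'.ne_zero 0
  have i₂ := notMem_two hind'
  have i₃ := notMem_three hind'
  -- `P₀` fixes the flag
  have f₁ : ∀ h : ↥(E Q), (QuotientGroup.mk h : P Q) ∈ P₀ → ∀ a ∈ Submodule.span F {y₁},
      (h : V ≃ₗ[F] V) a ∈ Submodule.span F {y₁} := by
    have h1 := step hG hP (A := ⊥) (fun h _ a ha => by
      rw [Submodule.mem_bot] at ha ⊢
      rw [ha, map_zero]) t₁ (by rwa [Submodule.mem_bot]) (fun a ha => by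
      rw [Submodule.mem_bot] at ha
      rw [ha]
      exact polar_zero_right Q _) (by rw [finrank_bot]; omega) (fun w hw _ =>
        hmem s₁ t₁ hy₁ hw (hpp hy₁ hw) (hg _ (Subgroup.mem_sup_right ⟨_, rfl⟩)))
    rwa [bot_sup_eq] at h1
  have f₂ : ∀ h : ↥(E Q), (QuotientGroup.mk h : P Q) ∈ P₀ → ∀ a ∈ Submodule.span F {y₁} ⊔ Submodule.span F {y₂},
      (h : V ≃ₗ[F] V) a ∈ Submodule.span F {y₁} ⊔ Submodule.span F {y₂} := by
    refine step hG hP f₁ t₂ i₂ (fun a ha => ?_) (by rw [finrank_span_singleton i₁]; omega) (fun w hw hwA => ?_)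
    · obtain ⟨c, rfl⟩ := Submodule.mem_span_singleton.1 ha
      rw [polar_smul_right, polar_comm, p₁₂, smul_zero]
    · refine hmem s₂ t₂ hy₂ hw (hpp hy₂ hw) (hg _ (Subgroup.mem_sup_left (Subgroup.mem_sup_right ⟨⟨_, rfl⟩, ?_⟩)))
      refine sg_mem_fixV s₂ _ (hW₀.polar m₂ m₁) ?_
      rw [← hpol hy₁]
      exact hwA _ (Submodule.mem_span_singleton_self _)
  have f₃ : ∀ h : ↥(E Q), (QuotientGroup.mk h : P Q) ∈ P₀ →
      ∀ a ∈ (Submodule.span F {y₁} ⊔ Submodule.span F {y₂}) ⊔ Submodule.span F {y₃},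
      (h : V ≃ₗ[F] V) a ∈ (Submodule.span F {y₁} ⊔ Submodule.span F {y₂}) ⊔ Submodule.span F {y₃} := by
    refine step hG hP f₂ t₃ i₃ (fun a ha => ?_) ?_ (fun w hw hwA => ?_)
    · obtain ⟨a', ha', b', hb', rfl⟩ := Submodule.mem_sup.1 ha
      obtain ⟨c, rfl⟩ := Submodule.mem_span_singleton.1 ha'
      obtain ⟨d, rfl⟩ := Submodule.mem_span_singleton.1 hb'
      rw [polar_add_right, polar_smul_right, polar_smul_right, polar_comm, p₁₃, polar_comm, p₂₃, smul_zero, smul_zero,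
        add_zero]
    · have e1 := Submodule.finrank_add_le_finrank_add_finrank (Submodule.span F {y₁}) (Submodule.span F {y₂})
      have e2 := finrank_span_singleton (K := F) i₁
      have e3 : finrank F (Submodule.span F {y₂}) ≤ 1 := by
        simpa using finrank_span_le_card (R := F) ({y₂} : Set V)
      omega
    · refine hmem s₃ t₃ hy₃ hw (hpp hy₃ hw)
        (hg _ (Subgroup.mem_sup_left (Subgroup.mem_sup_left ⟨⟨⟨_, rfl⟩, ?_⟩, ?_⟩)))
      · refine sg_mem_fixV s₃ _ (hW₀.polar m₃ m₁) ?_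
        rw [← hpol hy₁]
        exact hwA _ (Submodule.mem_sup_left (Submodule.mem_span_singleton_self _))
      · refine sg_mem_fixV s₃ _ (hW₀.polar m₃ m₂) ?_
        rw [← hpol hy₂]
        exact hwA _ (Submodule.mem_sup_right (Submodule.mem_span_singleton_self _))
  refine ⟨y₁, y₂, y₃, hind', ?_, f₁, f₂, f₃⟩
  intro w hw
  obtain ⟨z, hz, b', hb', rfl⟩ := Submodule.mem_sup.1 hw
  obtain ⟨a, ha, c', hc', rfl⟩ := Submodule.mem_sup.1 hz
  obtain ⟨α, rfl⟩ := Submodule.mem_span_singleton.1 ha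
  obtain ⟨β, rfl⟩ := Submodule.mem_span_singleton.1 hc'
  obtain ⟨γ, rfl⟩ := Submodule.mem_span_singleton.1 hb'
  have e1 : α • y₁ + β • y₂ + γ • y₃ = (g : V ≃ₗ[F] V) (α • x₁ + β • x₂ + γ • x₃) := by
    rw [map_add, map_add, map_smul, map_smul, map_smul, hy₁, hy₂, hy₃]
  rw [e1, mem_O.1 (E_le_O g.2)]
  exact hW₀ _ (W₀.add_mem (W₀.add_mem (W₀.smul_mem _ m₁) (W₀.smul_mem _ m₂)) (W₀.smul_mem _ m₃))

/-- the group induced by `H₀` on `W` -/
def indW (H₀ : Subgroup (P Q)) (W : Submodule F V) : Subgroup (W ≃ₗ[F] W) where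
  carrier := {k | ∃ h : ↥(E Q), (QuotientGroup.mk h : P Q) ∈ H₀ ∧ ∀ w : W, ((k w : W) : V) = (h : V ≃ₗ[F] V) w}
  one_mem' := ⟨1, H₀.one_mem, fun _ => rfl⟩
  mul_mem' := by
    rintro k k' ⟨h, hh, e⟩ ⟨h', hh', e'⟩
    refine ⟨h * h', H₀.mul_mem hh hh', fun w => ?_⟩
    change ((k (k' w) : W) : V) = (h : V ≃ₗ[F] V) ((h' : V ≃ₗ[F] V) w)
    rw [e, e']
  inv_mem' := by
    rintro k ⟨h, hh, e⟩
    refine ⟨h⁻¹, H₀.inv_mem hh, fun w => ?_⟩
    change ((k.symm w : W) : V) = (h : V ≃ₗ[F] V).symm w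
    rw [eq_comm, LinearEquiv.symm_apply_eq, ← e, LinearEquiv.apply_symm_apply]

theorem not_dvd_indW (hG : Good Q) {p : ℕ} [hp : Fact p.Prime] (hp2 : p ≠ 2) {H₀ : Subgroup (P Q)}
    (hH : ¬ p ∣ Nat.card H₀) (W : Submodule F V) : ¬ p ∣ Nat.card (indW H₀ W) := by
  have hfin : Finite ↥(E Q) := finite_E
  have hfinW : Finite (W ≃ₗ[F] W) := Finite.of_injective (fun f : W ≃ₗ[F] W => (f : W → W)) DFunLike.coe_injective
  intro hdvd
  obtain ⟨⟨k, hkm⟩, hk⟩ := exists_prime_orderOf_dvd_card' p hdvd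
  rw [Subgroup.orderOf_mk] at hk
  obtain ⟨h, hh, e⟩ := hkm
  have h1 : Nat.card ↥(H₀.comap (QuotientGroup.mk' (Subgroup.center ↥(E Q)))) =
      Nat.card H₀ * Nat.card (Subgroup.center ↥(E Q)) := by
    have h2 := card_inf_range_mul_ker (QuotientGroup.mk' (Subgroup.center ↥(E Q))) H₀
    rw [← h2, QuotientGroup.ker_mk', MonoidHom.range_eq_top.2 (QuotientGroup.mk'_surjective _), inf_top_eq]
  have h2 : orderOf h ∣ Nat.card ↥(H₀.comap (QuotientGroup.mk' (Subgroup.center ↥(E Q)))) := by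
    have hh' : h ∈ H₀.comap (QuotientGroup.mk' (Subgroup.center ↥(E Q))) := hh
    have h3 := orderOf_dvd_natCard (⟨h, hh'⟩ : ↥(H₀.comap (QuotientGroup.mk' (Subgroup.center ↥(E Q)))))
    rwa [Subgroup.orderOf_mk] at h3
  have h3 : ∀ n : ℕ, ∀ w : W, (((k ^ n) w : W) : V) = ((h ^ n : ↥(E Q)) : V ≃ₗ[F] V) w := by
    intro n
    induction n with
    | zero => intro w; rfl
    | succ n ih =>
      intro w
      rw [pow_succ, pow_succ]
      change (((k ^ n) (k w) : W) : V) = ((h ^ n : ↥(E Q)) : V ≃ₗ[F] V) ((h : V ≃ₗ[F] V) w)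
      rw [ih, e]
  have h4 : k ^ orderOf h = 1 := by
    ext w
    rw [h3, pow_orderOf_eq_one]
    rfl
  have h5 : p ∣ orderOf h := by
    rw [← hk]
    exact orderOf_dvd_of_pow_eq_one h4
  have h6 := h5.trans h2
  rw [h1, hp.out.dvd_mul] at h6
  rcases h6 with h6 | h6
  · exact hH h6
  · exact not_dvd_center' hG (Or.inl hp2) h6

/-- **No factorization.** -/
theorem no_fact (hG : Good Q) {p : ℕ} [hp : Fact p.Prime] [CharP F p] (hp2 : p ≠ 2) (hN : 7 ≤ finrank F V)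
    (hW : ∃ W : Submodule F V, TS Q W ∧ finrank F W = 3) {P₀ H₀ : Subgroup (P Q)} (hP : Odd (Nat.card P₀))
    (hPv : v p P₀ = v p (P Q)) (hH : ¬ p ∣ Nat.card H₀) (hPH : ∀ g : P Q, ∃ x ∈ P₀, g * x⁻¹ ∈ H₀) : False := by
  have hfin : Finite ↥(E Q) := finite_E
  have hfd : FiniteDimensional F V := inferInstance
  obtain ⟨y₁, y₂, y₃, hind, hTS, f₁, f₂, f₃⟩ := exists_fixed_flag hG (CharP.cast_eq_zero F p) hN hW hP hPv
  obtain ⟨W, hWd⟩ : ∃ W : Submodule F V, W = (Submodule.span F {y₁} ⊔ Submodule.span F {y₂}) ⊔ Submodule.span F {y₃} :=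
    ⟨_, rfl⟩
  rw [← hWd] at hTS f₃
  have i₁ : y₁ ≠ 0 := hind.ne_zero 0
  have i₂ := notMem_two hind
  have m₁ : y₁ ∈ W := by
    rw [hWd]
    exact Submodule.mem_sup_left (Submodule.mem_sup_left (Submodule.mem_span_singleton_self _))
  have m₂ : y₂ ∈ W := by
    rw [hWd]
    exact Submodule.mem_sup_left (Submodule.mem_sup_right (Submodule.mem_span_singleton_self _))
  have hfr : finrank F W = 3 := by
    have h1 : W = Submodule.span F (Set.range ![y₁, y₂, y₃]) := by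
      rw [hWd, ← Submodule.span_union, ← Submodule.span_union]
      congr 1
      ext x
      simp [Matrix.range_cons, Matrix.range_empty]
    rw [h1, finrank_span_eq_card hind, Fintype.card_fin]
  have hfinW : Finite (W ≃ₗ[F] W) := Finite.of_injective (fun f : W ≃ₗ[F] W => (f : W → W)) DFunLike.coe_injective
  -- every flag is the image of the base flag
  have key : ∀ c L : Submodule F W, finrank F c = 1 → finrank F L = 2 → c ≤ L → ∃ k ∈ indW H₀ W,
      (Submodule.span F {(⟨y₁, m₁⟩ : W)}).map (k : W →ₗ[F] W) = c ∧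
      (Submodule.span F {(⟨y₁, m₁⟩ : W)} ⊔ Submodule.span F {(⟨y₂, m₂⟩ : W)}).map (k : W →ₗ[F] W) = L := by
    intro c L hc hL hcL
    obtain ⟨z₁, hz₁, hz₁0⟩ : ∃ z ∈ c, z ≠ 0 := by
      have : Nontrivial c := Module.nontrivial_of_finrank_pos (R := F) (by omega)
      obtain ⟨x, hx⟩ := exists_ne (0 : c)
      exact ⟨x, x.2, fun h => hx (Subtype.ext h)⟩
    have hcs : c = Submodule.span F {z₁} := by
      symm
      apply Submodule.eq_of_le_of_finrank_eq
      · rw [Submodule.span_singleton_le_iff_mem]; exact hz₁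
      · rw [finrank_span_singleton hz₁0, hc]
    obtain ⟨z₂, hz₂, hz₂c⟩ : ∃ z ∈ L, z ∉ c := by
      by_contra hcon
      push Not at hcon
      have h1 := Submodule.finrank_mono (show L ≤ c from hcon)
      omega
    have hz₁' : ((z₁ : W) : V) ≠ 0 := fun h => hz₁0 (Subtype.ext h)
    have hz₂' : ((z₂ : W) : V) ∉ Submodule.span F {((z₁ : W) : V)} := by
      intro h
      obtain ⟨d, hd⟩ := Submodule.mem_span_singleton.1 h
      apply hz₂c
      rw [hcs, Submodule.mem_span_singleton]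
      exact ⟨d, Subtype.ext hd⟩
    obtain ⟨g, hgW, hg₁, hg₂⟩ := exists_flag_map hG hTS m₁ m₂ z₁.2 z₂.2 i₁ i₂ hz₁' hz₂'
    obtain ⟨x', hx', hgx⟩ := hPH (QuotientGroup.mk g)
    obtain ⟨x, rfl⟩ := QuotientGroup.mk_surjective x'
    have hxi : (QuotientGroup.mk x⁻¹ : P Q) ∈ P₀ := P₀.inv_mem hx'
    have hgx' : (QuotientGroup.mk (g * x⁻¹) : P Q) ∈ H₀ := hgx
    have hmap : ∀ w : W, ((g * x⁻¹ : ↥(E Q)) : V ≃ₗ[F] V) w ∈ W := fun w => hgW _ (f₃ _ hxi _ w.2)
    let k₀ : W →ₗ[F] W := (((g * x⁻¹ : ↥(E Q)) : V ≃ₗ[F] V) : V →ₗ[F] V).restrict (fun w hw => hmap ⟨w, hw⟩)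
    have hk₀ : ∀ w : W, ((k₀ w : W) : V) = ((g * x⁻¹ : ↥(E Q)) : V ≃ₗ[F] V) w := fun _ => rfl
    have hinj : Function.Injective k₀ := by
      intro a b hab
      have h1 := congrArg Subtype.val hab
      rw [hk₀, hk₀] at h1
      exact Subtype.ext (LinearEquiv.injective _ h1)
    let k : W ≃ₗ[F] W := LinearEquiv.ofInjectiveEndo k₀ hinj
    have hk : ∀ w : W, ((k w : W) : V) = ((g * x⁻¹ : ↥(E Q)) : V ≃ₗ[F] V) w := fun _ => rfl
    refine ⟨k, ⟨g * x⁻¹, hgx', hk⟩, ?_, ?_⟩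
    · apply Submodule.eq_of_le_of_finrank_eq
      · rw [Submodule.map_span, Set.image_singleton, Submodule.span_singleton_le_iff_mem, hcs]
        have h1 := f₁ _ hxi y₁ (Submodule.mem_span_singleton_self _)
        obtain ⟨d, hd⟩ := Submodule.mem_span_singleton.1 h1
        obtain ⟨d', hd'⟩ := Submodule.mem_span_singleton.1 hg₁
        rw [Submodule.mem_span_singleton]
        refine ⟨d * d', Subtype.ext ?_⟩
        change (d * d') • ((z₁ : W) : V) = (g : V ≃ₗ[F] V) (((x⁻¹ : ↥(E Q)) : V ≃ₗ[F] V) y₁)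
        rw [← hd, map_smul, ← hd', smul_smul]
      · rw [LinearEquiv.finrank_map_eq, hc, finrank_span_singleton (fun h => i₁ (congrArg Subtype.val h))]
    · apply Submodule.eq_of_le_of_finrank_eq
      · rw [Submodule.map_sup, Submodule.map_span, Submodule.map_span, Set.image_singleton, Set.image_singleton,
          sup_le_iff, Submodule.span_singleton_le_iff_mem, Submodule.span_singleton_le_iff_mem]
        have hspan : ∀ v ∈ Submodule.span F {((z₁ : W) : V)} ⊔ Submodule.span F {((z₂ : W) : V)}, ∀ w : W,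
            (w : V) = v → w ∈ L := by
          intro v hv w hw
          obtain ⟨a, ha, b, hb, hab⟩ := Submodule.mem_sup.1 hv
          obtain ⟨α, rfl⟩ := Submodule.mem_span_singleton.1 ha
          obtain ⟨β, rfl⟩ := Submodule.mem_span_singleton.1 hb
          have h1 : w = α • z₁ + β • z₂ := Subtype.ext (by rw [hw, ← hab]; rfl)
          rw [h1]
          exact L.add_mem (L.smul_mem _ (hcL hz₁)) (L.smul_mem _ hz₂)
        have hstep : ∀ v ∈ Submodule.span F {y₁} ⊔ Submodule.span F {y₂}, (g : V ≃ₗ[F] V) v ∈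
            Submodule.span F {((z₁ : W) : V)} ⊔ Submodule.span F {((z₂ : W) : V)} := by
          intro v hv
          obtain ⟨a, ha, b, hb, rfl⟩ := Submodule.mem_sup.1 hv
          obtain ⟨α, rfl⟩ := Submodule.mem_span_singleton.1 ha
          obtain ⟨β, rfl⟩ := Submodule.mem_span_singleton.1 hb
          rw [map_add, map_smul, map_smul]
          exact add_mem (Submodule.smul_mem _ _ (Submodule.mem_sup_left hg₁)) (Submodule.smul_mem _ _ hg₂)
        constructor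
        · exact hspan _ (hstep _ (f₂ _ hxi y₁ (Submodule.mem_sup_left (Submodule.mem_span_singleton_self _)))) _ rfl
        · exact hspan _ (hstep _ (f₂ _ hxi y₂ (Submodule.mem_sup_right (Submodule.mem_span_singleton_self _)))) _ rfl
      · rw [LinearEquiv.finrank_map_eq, hL]
        have h1 : LinearIndependent F ![(⟨y₁, m₁⟩ : W), ⟨y₂, m₂⟩] := by
          rw [LinearIndependent.pair_iff' (fun h => i₁ (congrArg Subtype.val h))]
          intro a ha
          exact i₂ (Submodule.mem_span_singleton.2 ⟨a, congrArg Subtype.val ha⟩)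
        have h2 : Submodule.span F {(⟨y₁, m₁⟩ : W)} ⊔ Submodule.span F {(⟨y₂, m₂⟩ : W)} =
            Submodule.span F (Set.range ![(⟨y₁, m₁⟩ : W), ⟨y₂, m₂⟩]) := by
          rw [← Submodule.span_union]
          congr 1
          ext x
          simp [Matrix.range_cons, Matrix.range_empty]
        rw [h2, finrank_span_eq_card h1, Fintype.card_fin]
  refine Cfsg.Agent.H160.DP.no_flag_trans (p := p) hp2 hfr (indW H₀ W) (not_dvd_indW hG hp2 hH W) ?_
  intro c c' L L' hc hc' hL hL' hcL hcL'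
  obtain ⟨k, hk, h1, h2⟩ := key c L hc hL hcL
  obtain ⟨k', hk', h1', h2'⟩ := key c' L' hc' hL' hcL'
  refine ⟨k' * k⁻¹, (indW H₀ W).mul_mem hk' ((indW H₀ W).inv_mem hk), ?_, ?_⟩
  · rw [← h1, ← h1', ← Submodule.map_comp]
    congr 1
    ext w
    change ((k' (k.symm (k w)) : W) : V) = _
    rw [LinearEquiv.symm_apply_apply]
    rfl
  · rw [← h2, ← h2', ← Submodule.map_comp]
    congr 1
    ext w
    change ((k' (k.symm (k w)) : W) : V) = _
    rw [LinearEquiv.symm_apply_apply]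
    rfl

end main

end Cfsg.Agent.H14.DP

/-! ## the families -/

namespace Cfsg.Agent.H14.DP

open QuadraticMap Module Cfsg Cfsg.Agent.LieClassical.OrthCore Cfsg.Agent.LieClassical.OrthTrans
open Cfsg.Agent.ClassicalGeometry.OrthSemi Cfsg.Agent.ClassicalGeometry.OrthAut1 Cfsg.Agent.AutOrth.Main
open Cfsg.Agent.LieClassical.QuadForms
open Cfsg.Agent.H160.PD (v)

/-- no factorization `S = P₀ H₀` with `P₀` of odd order containing a Sylow `p`-subgroup and `H₀` a `p'`-group -/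
def NoFact (p : ℕ) (S : Type*) [Group S] : Prop :=
  ∀ P₀ H₀ : Subgroup S, Odd (Nat.card P₀) → v p P₀ = v p S → ¬ p ∣ Nat.card H₀ →
    (∀ g : S, ∃ a ∈ P₀, ∃ b ∈ H₀, g = a * b) → False

theorem NoFact.congr {p : ℕ} {S T : Type*} [Group S] [Group T] (e : S ≃* T) (h : NoFact p T) : NoFact p S := by
  intro P₀ H₀ h1 h2 h3 h4
  have c1 : Nat.card (P₀.map e.toMonoidHom) = Nat.card P₀ := Subgroup.card_map_of_injective e.injective
  have c2 : Nat.card (H₀.map e.toMonoidHom) = Nat.card H₀ := Subgroup.card_map_of_injective e.injective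
  have c3 : Nat.card S = Nat.card T := Nat.card_congr e.toEquiv
  refine h (P₀.map e.toMonoidHom) (H₀.map e.toMonoidHom) (by rwa [c1]) ?_ (by rwa [c2]) fun g => ?_
  · rw [v, c1, v, ← c3]
    exact h2
  · obtain ⟨a, ha, b, hb, hab⟩ := h4 (e.symm g)
    refine ⟨e a, ⟨a, ha, rfl⟩, e b, ⟨b, hb, rfl⟩, ?_⟩
    rw [← map_mul, ← hab, MulEquiv.apply_symm_apply]

theorem noFact_P {F V : Type*} [Field F] [AddCommGroup V] [Module F V] {Q : QuadraticForm F V} [Finite V] [Finite F]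
    (hG : Good Q) {p : ℕ} [hp : Fact p.Prime] [CharP F p] (hp2 : p ≠ 2) (hN : 7 ≤ finrank F V)
    (hW : ∃ W : Submodule F V, TS Q W ∧ 3 ≤ finrank F W) : NoFact p (P Q) := by
  intro P₀ H₀ h1 h2 h3 h4
  obtain ⟨W, hW, hW3⟩ := hW
  obtain ⟨W', hW'⟩ := Cfsg.Agent.H160.DP.exists_sub (F := F) (V := W) hW3
  refine no_fact hG hp2 hN ⟨W'.map W.subtype, ?_, ?_⟩ h1 h2 h3 fun g => ?_
  · rintro _ ⟨w, -, rfl⟩
    exact hW _ w.2
  · rw [← hW']
    exact (LinearEquiv.finrank_eq (Submodule.equivMapOfInjective _ W.subtype_injective W')).symm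
  · obtain ⟨a, ha, b, hb, hab⟩ := h4 g⁻¹
    refine ⟨a⁻¹, P₀.inv_mem ha, ?_⟩
    have : g = b⁻¹ * a⁻¹ := by
      rw [← mul_inv_rev, ← hab, inv_inv]
    rw [this]
    simpa using hb

/-- a totally singular subspace from a linear map -/
theorem exists_TS_of_map {F V : Type*} [Field F] [AddCommGroup V] [Module F V] {Q : QuadraticForm F V} {n : ℕ}
    (f : (Fin n → F) →ₗ[F] V) (hf : Function.Injective f) (hQ : ∀ c, Q (f c) = 0) (hn : 3 ≤ n) :
    ∃ W : Submodule F V, TS Q W ∧ 3 ≤ finrank F W := by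
  refine ⟨LinearMap.range f, ?_, ?_⟩
  · rintro _ ⟨c, rfl⟩
    exact hQ c
  · rw [LinearMap.finrank_range_of_inj hf, Module.finrank_fin_fun]
    exact hn

section fam

variable {F : Type} [Field F] [Fintype F] {m : ℕ} {p : ℕ} [hp : Fact p.Prime] [CharP F p]

theorem noFact_plus (hp2 : p ≠ 2) (hm : 4 ≤ m) : NoFact p (POmega F (quadFormPlus m F)) := by
  rw [← coe_plusForm]
  have hG : Good (plusForm m F) := good_plus (by omega)
  refine NoFact.congr (pe hG) (noFact_P hG hp2 ?_ ?_)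
  · rw [Module.finrank_fintype_fun_eq_card]
    simp
    omega
  · let f : (Fin m → F) →ₗ[F] (Fin m ⊕ Fin m → F) :=
      { toFun := fun c => Sum.elim c 0
        map_add' := fun a b => by ext (i | i) <;> simp
        map_smul' := fun a b => by ext (i | i) <;> simp }
    refine exists_TS_of_map f (fun a b h => ?_) (fun c => ?_) (by omega)
    · ext i
      exact congrFun h (Sum.inl i)
    · rw [plusForm_apply]
      simp [f]

theorem noFact_minus (hp2 : p ≠ 2) (hm : 4 ≤ m) {a b : F}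
    (hab : ∀ z₁ z₂ : F, z₁ ^ 2 + a * z₁ * z₂ + b * z₂ ^ 2 = 0 → z₁ = 0 ∧ z₂ = 0) :
    NoFact p (POmega F (quadFormMinus (m - 1) F a b)) := by
  rw [← coe_minusForm]
  have hG : Good (minusForm (m - 1) F a b) := good_minus (by omega) hab
  refine NoFact.congr (pe hG) (noFact_P hG hp2 ?_ ?_)
  · rw [Module.finrank_fintype_fun_eq_card]
    simp
    omega
  · let f : (Fin (m - 1) → F) →ₗ[F] ((Fin (m - 1) ⊕ Fin (m - 1)) ⊕ Fin 2 → F) :=
      { toFun := fun c => Sum.elim (Sum.elim c 0) 0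
        map_add' := fun a b => by ext ((i | i) | i) <;> simp
        map_smul' := fun a b => by ext ((i | i) | i) <;> simp }
    refine exists_TS_of_map f (fun a b h => ?_) (fun c => ?_) (by omega)
    · ext i
      exact congrFun h (Sum.inl (Sum.inl i))
    · rw [minusForm_apply, plusForm_apply, binForm_apply]
      simp [f]

theorem noFact_odd (hp2 : p ≠ 2) (hm : 3 ≤ m) : NoFact p (POmega F (quadFormOdd m F)) := by
  have h2 : (2 : F) ≠ 0 := by
    intro h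
    apply hp2
    have h3 : ((2 : ℕ) : F) = 0 := by exact_mod_cast h
    have h4 := (CharP.cast_eq_zero_iff F p 2).1 h3
    exact (Nat.prime_dvd_prime_iff_eq hp.out Nat.prime_two).1 h4
  rw [← coe_oddForm]
  have hG : Good (oddForm m F) := good_odd (by omega) h2
  refine NoFact.congr (pe hG) (noFact_P hG hp2 ?_ ?_)
  · rw [Module.finrank_fintype_fun_eq_card]
    simp
    omega
  · let f : (Fin m → F) →ₗ[F] (Unit ⊕ (Fin m ⊕ Fin m) → F) :=
      { toFun := fun c => Sum.elim 0 (Sum.elim c 0)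
        map_add' := fun a b => by ext (i | (i | i)) <;> simp
        map_smul' := fun a b => by ext (i | (i | i)) <;> simp }
    refine exists_TS_of_map f (fun a b h => ?_) (fun c => ?_) (by omega)
    · ext i
      exact congrFun h (Sum.inr (Sum.inl i))
    · have h3 := congrFun (coe_oddForm (F := F) m) (f c)
      rw [h3]
      simp [f, quadFormOdd]

end fam

end Cfsg.Agent.H14.DP
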