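import Cfsg.Agent.H817.DPi.Def
import Cfsg.Agent.H565.OddBorel
import Cfsg.Agent.H394.SqPsu3
import Cfsg.Agent.ClassicalGeometry.PSL2ElemOrder
import Cfsg.Agent.SmallSimple.PSLTwoPart
import Cfsg.Agent.H127.PSUThree
import Cfsg.Agent.H160.PSLTwo
import Cfsg.Agent.S0044
import Cfsg.Agent.S0005
import Cfsg.Agent.S0205
import Cfsg.Agent.S0280
import Cfsg.Agent.S1069
import Cfsg.Agent.S1159

/-!
# S4247: groups of rank one in characteristic `p ∈ π`, `2 ∉ π`: `E_π` implies `D_π` (helper14)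
-/

set_option autoImplicit false

namespace Cfsg.Agent.H14.DP

open Subgroup Cfsg Cfsg.Agent.H988.CPi Cfsg.Agent.H571.DExt Cfsg.Agent.H565.OddBorel
open scoped Pointwise

/-- a nontrivial finite solvable group has a nontrivial normal `r`-subgroup for some prime `r` -/
theorem exists_pCore_ne {G : Type*} [Group G] [Finite G] [Nontrivial G] (hs : Group.IsSolvable G) :
    ∃ r : ℕ, r.Prime ∧ pCore r G ≠ ⊥ := by
  by_contra hcon
  push Not at hcon
  have h1 : fittingSubgroup G = ⊥ := by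
    rw [Cfsg.Agent.Lib.Cores.fittingSubgroup_eq_iSup_pCore, eq_bot_iff]
    exact iSup_le fun p => (hcon p p.2).le
  have h2 := Cfsg.Agent.S0044.result (G := G)
  rw [h1] at h2
  have h3 : (⊤ : Subgroup G) ≤ ⊥ := by
    intro x _
    refine h2 (Subgroup.mem_centralizer_iff.mpr ?_)
    intro y hy
    rw [SetLike.mem_coe, Subgroup.mem_bot] at hy
    rw [hy, one_mul, mul_one]
  exact bot_ne_top (le_antisymm bot_le h3)

/-- a nontrivial solvable subgroup normalises a nontrivial `r`-subgroup of itself -/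
theorem exists_normal_r {G : Type*} [Group G] [Finite G] {Y : Subgroup G} (hs : Group.IsSolvable Y) (hY : Y ≠ ⊥) :
    ∃ r : ℕ, r.Prime ∧ ∃ R : Subgroup G, R ≤ Y ∧ R ≠ ⊥ ∧ IsPGroup r R ∧ ∀ y ∈ Y, ∀ x ∈ R, y * x * y⁻¹ ∈ R := by
  have hnt : Nontrivial Y := (Subgroup.nontrivial_iff_ne_bot Y).2 hY
  obtain ⟨r, hr, hne⟩ := exists_pCore_ne hs
  have := Fact.mk hr
  refine ⟨r, hr, (pCore r Y).map Y.subtype, ?_, ?_, ?_, ?_⟩
  · rintro _ ⟨y, -, rfl⟩
    exact y.2
  · intro h
    exact hne ((Subgroup.map_eq_bot_iff_of_injective _ Y.subtype_injective).1 h)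
  · exact (Cfsg.Agent.Lib.Cores.pCore_isPGroup r).map _
  · rintro y hy _ ⟨x, hx, rfl⟩
    have hn : (pCore r Y).Normal := inferInstance
    exact ⟨⟨y, hy⟩ * x * ⟨y, hy⟩⁻¹, hn.conj_mem x hx _, rfl⟩

/-- an element of odd order is in every subgroup which contains its square -/
theorem mem_of_sq {G : Type*} [Group G] [Finite G] {K : Subgroup G} {y : G} (hodd : Odd (orderOf y)) (h : y * y ∈ K) :
    y ∈ K := by
  obtain ⟨k, hk⟩ := hodd
  have h1 : y = (y * y) ^ (k + 1) := by
    rw [← pow_two, ← pow_mul, show 2 * (k + 1) = (2 * k + 1) + 1 by ring, pow_succ, ← hk, pow_orderOf_eq_one, one_mul]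
  rw [h1]
  exact K.pow_mem h _

section Abs

variable {G : Type*} [Group G] [Finite G] {p : ℕ} [hp : Fact p.Prime]

/-- the facts which are used -/
structure RO (p : ℕ) (G : Type*) [Group G] : Prop where
  ti : H794.TI p G
  dvd : p ∣ Nat.card G
  card : ∀ S : Sylow p G, Nat.card (Sylow p G) = Nat.card S + 1
  odd : OddLe p G
  solv : BorelSolv p G
  cent : ∀ (S : Sylow p G) (z x : G) (r : ℕ), r.Prime → r ≠ 2 → r ≠ p → orderOf z = r → orderOf x = p → z * x = x * z →
    r ∣ Nat.card S + 1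

theorem eq_of_mem_of_mem (h : H794.TI p G) {S S' : Sylow p G} {x : G} (hx1 : x ≠ 1) (hx : x ∈ (S : Subgroup G))
    (hx' : x ∈ (S' : Subgroup G)) : S = S' := by
  by_contra hne
  have h1 := H394.SqPsu3.inf_of_ti h S S' hne
  have h2 : x ∈ (S : Subgroup G) ⊓ (S' : Subgroup G) := ⟨hx, hx'⟩
  rw [h1, Subgroup.mem_bot] at h2
  exact hx1 h2

/-- an element of `S` which fixes another Sylow subgroup is trivial -/
theorem eq_one_of_fix (h : H794.TI p G) {S S' : Sylow p G} (hne : S ≠ S') {u : G} (hu : u ∈ (S : Subgroup G))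
    (hf : u • S' = S') : u = 1 := by
  by_contra hu1
  refine hne (eq_of_mem_of_mem h hu1 hu ?_)
  rw [Sylow.smul_eq_iff_mem_normalizer] at hf
  have h1 : IsPGroup p (zpowers u) := by
    have h2 := S.isPGroup'.to_le (zpowers_le.2 hu)
    exact h2
  have h3 : IsPGroup p ↥(zpowers u ⊔ (S' : Subgroup G)) :=
    h1.to_sup_of_normal_right' S'.isPGroup' (zpowers_le.2 hf)
  have h4 := S'.is_maximal' h3 le_sup_right
  rw [← h4]
  exact Subgroup.mem_sup_left (mem_zpowers u)

/-- `S` is transitive on the other Sylow subgroups -/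
theorem exists_smul_eq_of_ne (H : RO p G) {S S' S'' : Sylow p G} (h1 : S ≠ S') (h2 : S ≠ S'') :
    ∃ u ∈ (S : Subgroup G), u • S' = S'' := by
  classical
  have hfin : Finite (Sylow p G) := inferInstance
  let f : S → {T : Sylow p G // T ≠ S} := fun u => ⟨(u : G) • S', by
    intro h
    apply h1
    have h3 : (u : G)⁻¹ • S = S := by
      rw [Sylow.smul_eq_iff_mem_normalizer]
      exact Subgroup.le_normalizer (inv_mem u.2)
    have h6 : (u : G)⁻¹ • ((u : G) • S') = (u : G)⁻¹ • S := congrArg (fun T => (u : G)⁻¹ • T) h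
    rw [inv_smul_smul] at h6
    exact (h6.trans h3).symm⟩
  have hf : Function.Injective f := by
    intro u v huv
    have h3 : (u : G) • S' = (v : G) • S' := congrArg Subtype.val huv
    have h4 : ((v : G)⁻¹ * u) • S' = S' := by rw [mul_smul, h3, inv_smul_smul]
    have h5 := eq_one_of_fix H.ti h1 (mul_mem (inv_mem v.2) u.2) h4
    exact Subtype.ext (inv_mul_eq_one.1 h5).symm
  have hcard : Nat.card {T : Sylow p G // T ≠ S} = Nat.card S := by
    have h3 := H.card S
    have h4 : Nat.card {T : Sylow p G // T ≠ S} + 1 = Nat.card (Sylow p G) := by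
      have := Fintype.ofFinite (Sylow p G)
      rw [Nat.card_eq_fintype_card, Nat.card_eq_fintype_card, Fintype.card_subtype_compl, Fintype.card_subtype_eq]
      have : 0 < Fintype.card (Sylow p G) := Fintype.card_pos
      omega
    omega
  have hs := (Nat.bijective_iff_injective_and_card f).2 ⟨hf, hcard.symm⟩
  obtain ⟨u, hu⟩ := hs.2 ⟨S'', h2.symm⟩
  exact ⟨u, u.2, congrArg Subtype.val hu⟩

/-- an element of prime order `r` fixes at most two Sylow subgroups -/
theorem eq_or_eq_of_fix (H : RO p G) {r : ℕ} (hr : r.Prime) (hr2 : r ≠ 2) (hrp : r ≠ p)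
    (hd : ¬ r ∣ Nat.card (Sylow p G)) {z : G} (hz : orderOf z = r) {S S' S'' : Sylow p G} (h1 : z • S = S)
    (h2 : z • S' = S') (h3 : z • S'' = S'') : S = S' ∨ S = S'' ∨ S' = S'' := by
  by_contra hcon
  push Not at hcon
  obtain ⟨u, hu, huS⟩ := exists_smul_eq_of_ne H hcon.1 hcon.2.1
  have hzn := Sylow.smul_eq_iff_mem_normalizer.1 h1
  have h4 : z * u * z⁻¹ ∈ (S : Subgroup G) := (mem_normalizer_iff.1 hzn u).1 hu
  have h5 : (z * u * z⁻¹) • S' = u • S' := by
    rw [mul_smul, mul_smul, show z⁻¹ • S' = S' by rw [inv_smul_eq_iff, h2], huS, h3]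
  have h6 : (u⁻¹ * (z * u * z⁻¹)) • S' = S' := by rw [mul_smul, h5, inv_smul_smul]
  have h7 := eq_one_of_fix H.ti hcon.1 (mul_mem (inv_mem hu) h4) h6
  have h8 : u = z * u * z⁻¹ := inv_mul_eq_one.1 h7
  have h9 : z * u = u * z := (eq_mul_inv_iff_mul_eq.1 h8).symm
  have hu1 : u ≠ 1 := by
    rintro rfl
    exact hcon.2.2 (by rw [← huS, one_smul])
  -- a power of order `p`
  have hup : IsPGroup p (zpowers u) := S.isPGroup'.to_le (zpowers_le.2 hu)
  obtain ⟨k, hk⟩ := IsPGroup.iff_card.1 hup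
  rw [Nat.card_zpowers] at hk
  have hk0 : k ≠ 0 := by
    rintro rfl
    rw [pow_zero, orderOf_eq_one_iff] at hk
    exact hu1 hk
  have hx : orderOf (u ^ p ^ (k - 1)) = p := by
    rw [orderOf_pow, hk, Nat.gcd_eq_right (pow_dvd_pow p (Nat.sub_le k 1)), Nat.pow_div (Nat.sub_le k 1) hp.out.pos]
    rw [show k - (k - 1) = 1 by omega, pow_one]
  apply hd
  rw [H.card S]
  refine H.cent S z _ r hr hr2 hrp hz hx ?_
  exact (Commute.pow_right (show Commute z u from h9) _).eq

/-- **Main lemma**: a `π`-subgroup normalises a Sylow `p`-subgroup. -/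
theorem exists_normalizes (H : RO p G) {π : Set ℕ} (h2 : 2 ∉ π) (hΩ : PiN' π (Nat.card (Sylow p G)))
    {Y : Subgroup G} (hY : PiN π (Nat.card Y)) :
    ∃ S : Sylow p G, Y ≤ normalizer ((S : Subgroup G) : Set G) := by
  have hodd : Odd (Nat.card Y) := by
    rw [← Nat.not_even_iff_odd, even_iff_two_dvd]
    exact fun h => h2 (hY 2 Nat.prime_two h)
  by_cases hY1 : Y = ⊥
  · obtain ⟨S⟩ : Nonempty (Sylow p G) := inferInstance
    exact ⟨S, by rw [hY1]; exact bot_le⟩
  have hsol : Group.IsSolvable Y := S0205.result hodd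
  obtain ⟨r, hr, R, hRY, hR1, hR, hn⟩ := exists_normal_r hsol hY1
  have hrF := Fact.mk hr
  obtain ⟨x, hx, hx1⟩ := R.bot_or_exists_ne_one.resolve_left hR1
  by_cases hrp : r = p
  · subst hrp
    obtain ⟨S, hS⟩ := hR.exists_le_sylow
    exact ⟨S, fun y hy => H.ti S x (hS hx) hx1 y (hS (hn y hy x hx))⟩
  -- `r ∈ π`
  have hrd : r ∣ Nat.card R := by
    obtain ⟨k, hk⟩ := IsPGroup.iff_card.1 hR
    have hk0 : k ≠ 0 := by
      rintro rfl
      rw [pow_zero] at hk
      exact hR1 (Subgroup.card_eq_one.1 hk)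
    rw [hk]
    exact dvd_pow_self r hk0
  have hrπ : r ∈ π := hY r hr (hrd.trans (Subgroup.card_dvd_of_le hRY))
  have hr2 : r ≠ 2 := by rintro rfl; exact h2 hrπ
  have hrΩ := hΩ r hr hrπ
  obtain ⟨z', hz'⟩ := exists_prime_orderOf_dvd_card' (G := R) r hrd
  obtain ⟨z, hz⟩ : ∃ z, z = (z' : G) := ⟨_, rfl⟩
  have hzo : orderOf z = r := by rw [hz, Subgroup.orderOf_coe, hz']
  have hzR : z ∈ R := by rw [hz]; exact z'.2
  obtain ⟨S, hS⟩ := hR.nonempty_fixed_point_of_prime_not_dvd_card (Sylow p G) hrΩ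
  have hSR : ∀ y ∈ R, y • S = S := fun y hy => hS ⟨y, hy⟩
  -- the elements of `Y` permute the fixed points of `R`
  have hfix : ∀ T : Sylow p G, (∀ y ∈ R, y • T = T) → ∀ g ∈ Y, ∀ y ∈ R, y • (g • T) = g • T := by
    intro T hT g hg y hy
    have h3 : g⁻¹ * y * g ∈ R := by
      have := hn g⁻¹ (inv_mem hg) y hy
      rwa [inv_inv] at this
    have h4 := hT _ h3
    calc y • (g • T) = g • ((g⁻¹ * y * g) • T) := by
          rw [smul_smul, smul_smul]
          congr 1
          group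
      _ = g • T := by rw [h4]
  refine ⟨S, fun g hg => ?_⟩
  refine Sylow.smul_eq_iff_mem_normalizer.1 ?_
  by_contra hne
  have h3 := hfix S hSR g hg
  have h4 := hfix _ h3 g hg
  have hgo : Odd (orderOf g) := by
    refine Odd.of_dvd_nat hodd ?_
    have := orderOf_dvd_natCard (⟨g, hg⟩ : Y)
    rwa [← Subgroup.orderOf_coe] at this
  rcases eq_or_eq_of_fix H hr hr2 hrp hrΩ hzo (hSR z hzR) (h3 z hzR) (h4 z hzR) with h5 | h5 | h5
  · exact hne h5.symm
  · rw [smul_smul] at h5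
    have h6 : g * g ∈ normalizer ((S : Subgroup G) : Set G) := Sylow.smul_eq_iff_mem_normalizer.1 h5.symm
    exact hne (Sylow.smul_eq_iff_mem_normalizer.2 (mem_of_sq hgo h6))
  · exact hne (smul_left_cancel g h5).symm

/-- **`E_π` implies `D_π`.** -/
theorem RO.dom (H : RO p G) {π : Set ℕ} (h2 : 2 ∉ π) (hpπ : p ∈ π) (hE : IsEPiGroup π G) : Dom π G := by
  obtain ⟨L, hL⟩ := hE
  obtain ⟨S⟩ : Nonempty (Sylow p G) := inferInstance
  obtain ⟨a, ha⟩ := exists_conj_le hpπ hL S
  have hL' := H164.hall_map_conj hL a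
  have hLN := H.odd S _ ha (odd_card_of_hall h2 hL')
  obtain ⟨L', hLd⟩ : ∃ L', L' = L.map (MulAut.conj a).toMonoidHom := ⟨_, rfl⟩
  rw [← hLd] at hL' hLN
  obtain ⟨N, hN⟩ : ∃ N, N = normalizer ((S : Subgroup G) : Set G) := ⟨_, rfl⟩
  rw [← hN] at hLN
  have hNs : Group.IsSolvable N := by rw [hN]; exact H.solv S
  have hΩ : PiN' π (Nat.card (Sylow p G)) := by
    intro l hl hlπ hd
    have hi : Nat.card (Sylow p G) = N.index := by rw [hN]; exact Sylow.card_eq_index_normalizer S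
    rw [hi] at hd
    exact hL'.2 l hl hlπ (hd.trans (Subgroup.index_dvd_of_le hLN))
  refine ⟨L', hL', fun K hK => ?_⟩
  obtain ⟨S', hS'⟩ := exists_normalizes H h2 hΩ hK
  obtain ⟨g, hg⟩ := MulAction.exists_smul_eq G S' S
  -- `K^g ≤ N`
  have hKN : MulAut.conj g • K ≤ N := by
    rw [hN]
    rintro _ ⟨y, hy, rfl⟩
    exact (mem_normalizer_conj_iff hg y).1 (hS' hy)
  have hcard : Nat.card N = Nat.card L' * L'.relIndex N := by
    rw [← Subgroup.card_mul_index (L'.subgroupOf N)]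
    congr 1
    exact Nat.card_congr (Subgroup.subgroupOfEquivOfLe hLN).toEquiv
  have hrel : PiN' π (L'.relIndex N) := fun l hl hlπ hd =>
    hL'.2 l hl hlπ (hd.trans (Subgroup.relIndex_dvd_index_of_le hLN))
  have hcop : (Nat.card L').Coprime (L'.relIndex N) := PiN.coprime (π := π) hL'.1 hrel
  obtain ⟨M, hM, hKM⟩ := S0005.result (G := N) _ _ hcard hcop ((MulAut.conj g • K).subgroupOf N) (by
    have h3 : Nat.card ((MulAut.conj g • K).subgroupOf N) = Nat.card K := by
      rw [Nat.card_congr (Subgroup.subgroupOfEquivOfLe hKN).toEquiv]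
      exact Nat.card_congr (Subgroup.equivSMul (MulAut.conj g) K).toEquiv.symm
    rw [h3]
    exact PiN.coprime (π := π) hK hrel)
  obtain ⟨n, hn⟩ := S0004.result (G := N) _ _ hcard hcop (L'.subgroupOf N) M
    (Nat.card_congr (Subgroup.subgroupOfEquivOfLe hLN).toEquiv) hM
  refine ⟨g⁻¹ * n, fun x hx => ?_⟩
  have h3 : g * x * g⁻¹ ∈ MulAut.conj g • K := ⟨x, hx, rfl⟩
  have h4 : (⟨g * x * g⁻¹, hKN h3⟩ : N) ∈ M := hKM (Subgroup.mem_subgroupOf.2 h3)
  rw [← hn] at h4
  obtain ⟨y, hy, e⟩ := h4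
  have h5 : (n : G) * y * (n : G)⁻¹ = g * x * g⁻¹ := congrArg Subtype.val e
  refine ⟨y, Subgroup.mem_subgroupOf.1 hy, ?_⟩
  change (g⁻¹ * (n : G)) * (y : G) * (g⁻¹ * (n : G))⁻¹ = x
  have : (g⁻¹ * (n : G)) * (y : G) * (g⁻¹ * (n : G))⁻¹ = g⁻¹ * ((n : G) * y * (n : G)⁻¹) * g := by group
  rw [this, h5]
  group

/-! ### the number of Sylow subgroups -/

theorem card_dvd_of_free {H α : Type*} [Group H] [MulAction H α] [Finite H] [Finite α]
    (h : ∀ (g : H) (a : α), g • a = a → g = 1) : Nat.card H ∣ Nat.card α := by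
  classical
  have : Fintype H := Fintype.ofFinite H
  have : Fintype α := Fintype.ofFinite α
  have h1 := MulAction.card_eq_sum_card_group_div_card_stabilizer H α
  rw [Nat.card_eq_fintype_card (α := α), h1]
  refine Finset.dvd_sum fun ω _ => ?_
  have h2 : MulAction.stabilizer H (Quotient.out ω : α) = ⊥ := by
    rw [eq_bot_iff]
    intro g hg
    exact h g _ (MulAction.mem_stabilizer_iff.1 hg)
  have h3 : Fintype.card (MulAction.stabilizer H (Quotient.out ω : α)) = 1 := by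
    rw [← Nat.card_eq_fintype_card, h2, Subgroup.card_bot]
  rw [h3, Nat.div_one, Nat.card_eq_fintype_card]

/-- `S` acts on the other Sylow subgroups -/
@[reducible] noncomputable def actOther (S : Sylow p G) : MulAction (S : Subgroup G) {T : Sylow p G // T ≠ S} where
  smul x T := ⟨(x : G) • T.1, fun h => T.2 (by
    have h1 : (x : G)⁻¹ • S = S := Sylow.smul_eq_iff_mem_normalizer.2 (inv_mem (le_normalizer x.2))
    have h2 : (x : G)⁻¹ • ((x : G) • T.1) = (x : G)⁻¹ • S := by rw [h]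
    rwa [inv_smul_smul, h1] at h2)⟩
  one_smul T := Subtype.ext (one_smul G T.1)
  mul_smul x y T := Subtype.ext (mul_smul (x : G) (y : G) T.1)

theorem card_dvd_sub_one (hTI : H794.TI p G) (S : Sylow p G) : Nat.card S ∣ Nat.card (Sylow p G) - 1 := by
  classical
  have h1 : Nat.card {T : Sylow p G // T ≠ S} = Nat.card (Sylow p G) - 1 := by
    have : Fintype (Sylow p G) := Fintype.ofFinite _
    rw [Nat.card_eq_fintype_card, Fintype.card_subtype_compl, Fintype.card_subtype_eq, Nat.card_eq_fintype_card]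
  rw [← h1]
  let _ := actOther S
  refine card_dvd_of_free fun x T h => ?_
  exact Subtype.ext (eq_one_of_fix hTI (Ne.symm T.2) x.2 (congrArg Subtype.val h))

theorem arith {Q M d t k : ℕ} (hM : M < Q) (hM0 : M ≠ 0) (hk : k ≠ 0) (h : t * (1 + k * Q) * d = M * (Q + 1)) :
    k = 1 := by
  have h1 : t * d ≤ M := by
    by_contra hlt
    push Not at hlt
    have h2 : M * (Q + 1) < t * d * (Q + 1) := Nat.mul_lt_mul_of_pos_right hlt (Nat.succ_pos _)
    have h3 : t * d * (Q + 1) ≤ t * d * (1 + k * Q) := by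
      apply Nat.mul_le_mul_left
      have : 1 * Q ≤ k * Q := Nat.mul_le_mul_right _ (Nat.one_le_iff_ne_zero.2 hk)
      omega
    have h4 : t * d * (1 + k * Q) = t * (1 + k * Q) * d := by ring
    omega
  have h2 : t * d % Q = M % Q := by
    have h3 : (t * d + Q * (k * (t * d))) % Q = (M + Q * M) % Q := by
      congr 1
      calc t * d + Q * (k * (t * d)) = t * (1 + k * Q) * d := by ring
        _ = M + Q * M := by rw [h]; ring
    rwa [Nat.add_mul_mod_self_left, Nat.add_mul_mod_self_left] at h3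
  rw [Nat.mod_eq_of_lt hM, Nat.mod_eq_of_lt (lt_of_le_of_lt h1 hM)] at h2
  have h3 : M * (1 + k * Q) = M * (Q + 1) := by
    rw [← h, ← h2]
    ring
  have h4 := Nat.eq_of_mul_eq_mul_left (Nat.pos_of_ne_zero hM0) h3
  have h5 : k * Q = 1 * Q := by omega
  exact Nat.eq_of_mul_eq_mul_right (by omega) h5

theorem RO.of_card [IsSimpleGroup G] {n M d : ℕ} (hTI : H794.TI p G) (hO : OddLe p G) (hB : BorelSolv p G)
    (hn : n ≠ 0) (hM : M < p ^ n) (hpM : ¬ p ∣ M) (hpd : ¬ p ∣ d) (hev : ¬ Odd (Nat.card G)) (hp2 : p ≠ 2)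
    (hcard : Nat.card G * d = p ^ n * M * (p ^ n + 1))
    (hcent : ∀ (z x : G) (r : ℕ), r.Prime → r ≠ 2 → r ≠ p → orderOf z = r → orderOf x = p → z * x = x * z →
      r ∣ p ^ n + 1) : RO p G := by
  have hM0 : M ≠ 0 := by rintro rfl; exact hpM (dvd_zero p)
  have hd0 : d ≠ 0 := by rintro rfl; exact hpd (dvd_zero p)
  have hG0 : Nat.card G ≠ 0 := Nat.card_pos.ne'
  have hpn : p ∣ p ^ n := dvd_pow_self p hn
  have hpn1 : ¬ p ∣ p ^ n + 1 := by
    intro h
    exact hp.out.one_lt.ne' (Nat.dvd_one.1 ((Nat.dvd_add_right hpn).1 h))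
  have hfac : (Nat.card G).factorization p = n := by
    have h1 : (Nat.card G * d).factorization p = (p ^ n * M * (p ^ n + 1)).factorization p := by rw [hcard]
    have hQ0 : p ^ n ≠ 0 := (pow_pos hp.out.pos n).ne'
    rw [Nat.factorization_mul hG0 hd0, Nat.factorization_mul (mul_ne_zero hQ0 hM0) (by omega),
      Nat.factorization_mul hQ0 hM0, hp.out.factorization_pow] at h1
    simp only [Finsupp.add_apply, Finsupp.single_eq_same] at h1
    rw [Nat.factorization_eq_zero_of_not_dvd hpM, Nat.factorization_eq_zero_of_not_dvd hpn1,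
      Nat.factorization_eq_zero_of_not_dvd hpd] at h1
    omega
  have hS : ∀ S : Sylow p G, Nat.card S = p ^ n := fun S => by rw [S.card_eq_multiplicity, hfac]
  have hdvd : p ∣ Nat.card G := by
    by_contra h
    rw [Nat.factorization_eq_zero_of_not_dvd h] at hfac
    exact hn hfac.symm
  refine ⟨hTI, hdvd, fun S => ?_, hO, hB, fun S z x r h1 h2 h3 h4 h5 h6 => by
    rw [hS S]; exact hcent z x r h1 h2 h3 h4 h5 h6⟩
  rw [hS S]
  obtain ⟨k, hk⟩ := card_dvd_sub_one hTI S
  rw [hS S] at hk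
  have hpos : 0 < Nat.card (Sylow p G) := Nat.card_pos
  have hk' : Nat.card (Sylow p G) = 1 + k * p ^ n := by
    rw [mul_comm k]
    omega
  have hi : Nat.card (Sylow p G) = (normalizer ((S : Subgroup G) : Set G)).index := Sylow.card_eq_index_normalizer S
  have hk0 : k ≠ 0 := by
    rintro rfl
    rw [zero_mul, add_zero, hi, Subgroup.index_eq_one, normalizer_eq_top_iff] at hk'
    rcases hk'.eq_bot_or_eq_top with h1 | h1
    · have h2 := hS S
      rw [h1, Subgroup.card_bot] at h2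
      exact (Nat.one_lt_pow hn hp.out.one_lt).ne h2
    · apply hev
      have h2 := hS S
      rw [h1, Subgroup.card_top] at h2
      rw [h2]
      exact (hp.out.odd_of_ne_two hp2).pow
  obtain ⟨t, ht⟩ : ∃ t, Nat.card (normalizer ((S : Subgroup G) : Set G)) = p ^ n * t := by
    have h1 : Nat.card S ∣ Nat.card (normalizer ((S : Subgroup G) : Set G)) := Subgroup.card_dvd_of_le le_normalizer
    rw [hS S] at h1
    exact h1
  have hGc : Nat.card G = p ^ n * t * (1 + k * p ^ n) := by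
    rw [← Subgroup.card_mul_index (normalizer ((S : Subgroup G) : Set G)), ht, ← hi, hk']
  have hk1 : k = 1 := by
    refine arith (Q := p ^ n) (M := M) (d := d) (t := t) hM hM0 hk0 ?_
    rw [hGc] at hcard
    have hpos : 0 < p ^ n := pow_pos hp.out.pos n
    refine Nat.eq_of_mul_eq_mul_left hpos ?_
    calc p ^ n * (t * (1 + k * p ^ n) * d) = p ^ n * t * (1 + k * p ^ n) * d := by ring
      _ = p ^ n * M * (p ^ n + 1) := hcard
      _ = _ := by ring
  rw [hk', hk1]
  omega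

end Abs

section Inst

universe u

variable {X : Type u} [Group X] [Finite X] [IsSimpleGroup X] {p : ℕ} [hp : Fact p.Prime]

theorem order_mul {G : Type*} [Group G] {z x : G} {r : ℕ} (hr : r.Prime) (hrp : r ≠ p) (hz : orderOf z = r)
    (hx : orderOf x = p) (h : z * x = x * z) : orderOf (z * x) = r * p := by
  rw [(show Commute z x from h).orderOf_mul_eq_mul_orderOf_of_coprime, hz, hx]
  rw [hz, hx]
  exact (Nat.coprime_primes hr hp.out).2 hrp

/-- **`PSL_2(q)`** -/
theorem ro_psl2 (hp2 : p ≠ 2) {F : Type} [Field F] [Fintype F] [CharP F p] (h4 : 4 ≤ Fintype.card F)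
    (e : X ≃* Matrix.ProjectiveSpecialLinearGroup (Fin 2) F) : RO p X := by
  obtain ⟨⟨f, hf⟩, -, hcard⟩ := FiniteField.card F p
  change Fintype.card F = p ^ f at hcard
  have hLie : IsLieTypeChar p X := Or.inl ⟨F, inferInstance, inferInstance, inferInstance, 2, le_rfl, fun _ => h4, ⟨e⟩⟩
  have hodd : Odd (Fintype.card F) := by rw [hcard]; exact (hp.out.odd_of_ne_two hp2).pow
  have hfin : Finite (Matrix.ProjectiveSpecialLinearGroup (Fin 2) F) := Finite.of_equiv X e.toEquiv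
  have hTI : H794.TI p (Matrix.ProjectiveSpecialLinearGroup (Fin 2) F) := by
    intro S x hx hx1 g hg
    refine Sylow.smul_eq_iff_mem_normalizer.1 ?_
    refine ClassicalGeometry.PSL2ElemOrder.sylow_eq_of_mem p (g • S) S (g * x * g⁻¹) ?_ ?_ hg
    · intro h
      exact hx1 (conj_eq_one_iff.1 h)
    · rw [Sylow.coe_subgroup_smul]
      exact ⟨x, hx, rfl⟩
  have hpq : p ∣ Fintype.card F := by rw [hcard]; exact dvd_pow_self p hf.ne'
  have hq1 : 1 < Fintype.card F := by omega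
  have hp1 : ¬ p ∣ 1 := fun h => hp.out.one_lt.ne' (Nat.dvd_one.1 h)
  have hpm : ¬ p ∣ Fintype.card F - 1 := by
    intro h
    have h1 := Nat.dvd_sub hpq h
    rw [Nat.sub_sub_self hq1.le] at h1
    exact hp1 h1
  have hpp : ¬ p ∣ Fintype.card F + 1 := fun h => hp1 ((Nat.dvd_add_right hpq).1 h)
  refine RO.of_card (n := f) (M := Fintype.card F - 1) (d := 2)
    (H794.DefClosed.TI.congr e.symm hTI) (oddLe_of_lie hp2 hLie) (borelSolv_of_lie hp2 hLie) hf.ne' ?_ hpm ?_
    (not_odd_of_lie hp2 hLie) hp2 ?_ ?_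
  · rw [← hcard]
    omega
  · intro h
    exact hp2 ((Nat.prime_dvd_prime_iff_eq hp.out Nat.prime_two).1 h)
  · have h1 := SmallSimple.PSLTwoPart.card_psl_two_odd hodd
    rw [Nat.card_congr e.toEquiv, mul_comm, h1, ← hcard]
    have h2 : Fintype.card F ^ 2 - 1 = (Fintype.card F - 1) * (Fintype.card F + 1) := by
      rw [mul_comm, ← Nat.sq_sub_sq, one_pow]
    rw [h2, mul_assoc]
  · intro z x r hr hr2 hrp hz hx hzx
    exfalso
    have h1 := order_mul (p := p) hr hrp hz hx hzx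
    rw [← MulEquiv.orderOf_eq e] at h1
    rcases H160.PSLTwo.orderOf_dvd p hodd (e (z * x)) with h2 | h2 | h2
    · rw [h1] at h2
      have h3 : r ∣ p := (dvd_mul_right r p).trans h2
      exact hrp ((Nat.prime_dvd_prime_iff_eq hr hp.out).1 h3)
    · rw [h1] at h2
      obtain ⟨k, hk⟩ := hodd
      exact hpm (((dvd_mul_left p r).trans h2).trans (Nat.div_dvd_of_dvd (by omega)))
    · rw [h1] at h2
      obtain ⟨k, hk⟩ := hodd
      exact hpp (((dvd_mul_left p r).trans h2).trans (Nat.div_dvd_of_dvd (by omega)))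

/-- **`PSU_3(q)`** -/
theorem ro_psu3 (hp2 : p ≠ 2) {F : Type} [Field F] [Fintype F] [CharP F p] {q : ℕ} (hF : Fintype.card F = q ^ 2)
    (hq2 : q ≠ 2) (e : X ≃* PSU 3 F q) : RO p X := by
  have hLie : IsLieTypeChar p X := Or.inr (Or.inr (Or.inl ⟨F, inferInstance, inferInstance, inferInstance, 3, q, hF,
    le_rfl, fun h => hq2 h.2, ⟨e⟩⟩))
  obtain ⟨⟨f', hf'⟩, -, hcard⟩ := FiniteField.card F p
  change Fintype.card F = p ^ f' at hcard
  obtain ⟨f, hf⟩ : ∃ f, q = p ^ f := by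
    have h1 : q ∣ p ^ f' := by rw [← hcard, hF]; exact dvd_pow_self q two_ne_zero
    obtain ⟨f, -, hf⟩ := (Nat.dvd_prime_pow hp.out).1 h1
    exact ⟨f, hf⟩
  have hf0 : f ≠ 0 := by
    rintro rfl
    rw [pow_zero] at hf
    rw [hf, one_pow] at hF
    have := Fintype.one_lt_card (α := F)
    omega
  have hpq : p ∣ q := by rw [hf]; exact dvd_pow_self p hf0
  have hqpos : 1 < q := by rw [hf]; exact Nat.one_lt_pow hf0 hp.out.one_lt
  have hp1 : ¬ p ∣ 1 := fun h => hp.out.one_lt.ne' (Nat.dvd_one.1 h)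
  have hfin : Finite (PSU 3 F q) := Finite.of_equiv X e.toEquiv
  have hTI : H794.TI p (PSU 3 F q) := H394.SqPsu3.ti_psu3 hF
  have hpp : ¬ p ∣ q + 1 := fun h => hp1 ((Nat.dvd_add_right hpq).1 h)
  have hq21 : 1 ≤ q ^ 2 := Nat.one_le_pow _ _ (by omega)
  have hpm : ¬ p ∣ q ^ 2 - 1 := by
    intro h
    have h1 := Nat.dvd_sub (hpq.trans (dvd_pow_self q two_ne_zero)) h
    rw [Nat.sub_sub_self hq21] at h1
    exact hp1 h1
  have hQ : p ^ (3 * f) = q ^ 3 := by rw [hf, ← pow_mul, mul_comm]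
  refine RO.of_card (n := 3 * f) (M := q ^ 2 - 1) (d := Nat.gcd 3 (q + 1))
    (H794.DefClosed.TI.congr e.symm hTI) (oddLe_of_lie hp2 hLie) (borelSolv_of_lie hp2 hLie) (by omega) ?_ hpm ?_
    (not_odd_of_lie hp2 hLie) hp2 ?_ ?_
  · rw [hQ]
    have : q ^ 2 ≤ q ^ 3 := Nat.pow_le_pow_right (by omega) (by norm_num)
    omega
  · intro h
    exact hpp (h.trans (Nat.gcd_dvd_right _ _))
  · have h1 := S0280.result hF 3 (by norm_num)
    simp only [Finset.prod_range_succ, Finset.prod_range_zero] at h1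
    norm_num at h1
    rw [hQ, Nat.card_congr e.toEquiv]
    have h2 : 0 < q + 1 := Nat.succ_pos _
    refine Nat.eq_of_mul_eq_mul_left h2 ?_
    calc (q + 1) * (Nat.card (PSU 3 F q) * Nat.gcd 3 (q + 1)) = _ := by ring
      _ = _ := h1
      _ = _ := by ring
  · intro z x r hr hr2 hrp hz hx hzx
    have h1 := order_mul (p := p) hr hrp hz hx hzx
    rw [← MulEquiv.orderOf_eq e] at h1
    rw [hQ]
    have hq3 : q + 1 ∣ q ^ 3 + 1 := by
      have : q ^ 3 + 1 = (q + 1) * (q ^ 2 - q + 1) := by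
        have h5 : q ≤ q ^ 2 := Nat.le_self_pow two_ne_zero q
        zify [h5]
        ring
      rw [this]
      exact dvd_mul_right _ _
    obtain ⟨g, hg⟩ := QuotientGroup.mk_surjective (e (z * x))
    rcases H127.PSUThree.order_dvd p hp2 q hF g with h2 | h2 | h2 | h2
    · rw [hg, h1] at h2
      exact absurd ((dvd_mul_left p r).trans h2) hpp
    · rw [hg, h1] at h2
      have h3 : r * p ∣ p * (q + 1) := h2.trans (Nat.div_dvd_of_dvd ((Nat.gcd_dvd_right _ _).trans (dvd_mul_left _ _)))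
      rw [mul_comm p] at h3
      exact (Nat.dvd_of_mul_dvd_mul_right hp.out.pos h3).trans hq3
    · rw [hg, h1] at h2
      refine absurd (((dvd_mul_left p r).trans h2).trans (Nat.div_dvd_of_dvd ?_)) hpm
      refine (Nat.gcd_dvd_right 3 (q + 1)).trans ?_
      have : q ^ 2 - 1 = (q + 1) * (q - 1) := by
        rw [← Nat.sq_sub_sq, one_pow]
      rw [this]
      exact dvd_mul_right _ _
    · rw [hg, h1] at h2
      exfalso
      have h3 : p ∣ (q ^ 2 - q + 1) := by
        refine ((dvd_mul_left p r).trans h2).trans (Nat.div_dvd_of_dvd ?_)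
        -- `gcd (3, q + 1) ∣ q ^ 2 - q + 1`
        have h5 : q ≤ q ^ 2 := Nat.le_self_pow two_ne_zero q
        have h6 : q ^ 2 - q + 1 + 3 * q = (q + 1) * (q + 1) := by
          zify [h5]
          ring
        have h7 : Nat.gcd 3 (q + 1) ∣ q ^ 2 - q + 1 + 3 * q := by
          rw [h6]
          exact (Nat.gcd_dvd_right _ _).mul_right _
        exact (Nat.dvd_add_left ((Nat.gcd_dvd_left _ _).mul_right q)).1 h7
      have h4 : p ∣ q ^ 2 - q := Nat.dvd_sub (hpq.trans (dvd_pow_self q two_ne_zero)) hpq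
      exact hp1 ((Nat.dvd_add_right h4).1 h3)

omit [IsSimpleGroup X] hp in
/-- **`²G₂(q)`** -/
theorem ro_ree [IsSimpleGroup X] (h : Lie.IsoRee X) : RO 3 X := by
  have hp3 : Fact (Nat.Prime 3) := ⟨Nat.prime_three⟩
  have hLie : IsLieTypeChar 3 X := by
    iterate 10 refine Or.inr ?_
    exact ⟨rfl, h⟩
  have hTI := H794.DefClosed.ti_ree h
  obtain ⟨K, _, _, m, hm, hK, ⟨e⟩⟩ := h
  have hfin : Finite ↥(Lie.twistedG2 K (3 ^ m)) := Finite.of_equiv X e.toEquiv
  obtain ⟨q, hq⟩ : ∃ q, q = 3 ^ (2 * m + 1) := ⟨_, rfl⟩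
  have h3q : 3 ∣ q := by rw [hq]; exact dvd_pow_self 3 (by omega)
  have hqpos : 1 < q := by rw [hq]; exact Nat.one_lt_pow (by omega) (by norm_num)
  have hQ : 3 ^ (3 * (2 * m + 1)) = q ^ 3 := by rw [hq, ← pow_mul, mul_comm]
  refine RO.of_card (n := 3 * (2 * m + 1)) (M := q - 1) (d := 1) hTI
    (oddLe_of_lie (by norm_num) hLie) (borelSolv_of_lie (by norm_num) hLie) (by omega) ?_ (by omega) (by norm_num)
    (not_odd_of_lie (by norm_num) hLie) (by norm_num) ?_ ?_
  · rw [hQ]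
    have : q ≤ q ^ 3 := Nat.le_self_pow (by norm_num) q
    omega
  · rw [hQ, mul_one, Nat.card_congr e.toEquiv, S1069.result hK, ← hq]
  · intro z x r hr hr2 hrp hz hx hzx
    exfalso
    have h1 := order_mul (p := 3) hr hrp hz hx hzx
    rw [← MulEquiv.orderOf_eq e] at h1
    have h3 : 3 ∣ r * 3 := dvd_mul_left 3 r
    rcases (S1159.result hm hK (r * 3)).1 ⟨e (z * x), h1⟩ with h2 | h2 | h2 | h2 | h2 | h2
    · have h4 : r ∣ 2 := by
        have h5 : r * 3 ∣ 2 * 3 := h2
        exact Nat.dvd_of_mul_dvd_mul_right (by norm_num) h5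
      exact hr2 ((Nat.prime_dvd_prime_iff_eq hr Nat.prime_two).1 h4)
    · have h4 : r ∣ 3 := by
        have h5 : r * 3 ∣ 3 * 3 := h2
        exact Nat.dvd_of_mul_dvd_mul_right (by norm_num) h5
      exact hrp ((Nat.prime_dvd_prime_iff_eq hr Nat.prime_three).1 h4)
    · have h4 := h3.trans h2
      rw [← hq] at h4
      omega
    · have h4 := h3.trans h2
      rw [← hq] at h4
      have h5 : q % 2 = 1 := by rw [hq, Nat.pow_mod]; norm_num
      have h6 := h4.trans (Nat.div_dvd_of_dvd (show 2 ∣ q + 1 by omega))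
      omega
    · have h4 := h3.trans h2
      have h5 : 3 ^ (m + 1) ≤ 3 ^ (2 * m + 1) := Nat.pow_le_pow_right (by norm_num) (by omega)
      have h6 : 3 ∣ 3 ^ (m + 1) := dvd_pow_self 3 (by omega)
      rw [← hq] at h4 h5
      omega
    · have h4 := h3.trans h2
      have h6 : 3 ∣ 3 ^ (m + 1) := dvd_pow_self 3 (by omega)
      rw [← hq] at h4
      omega

/-- **Groups of rank one in characteristic `p ∈ π`, `2 ∉ π`.** -/
theorem dom_rankOne {π : Set ℕ} (h2 : 2 ∉ π) {X : Type u} [Group X] [Finite X] [IsSimpleGroup X] {p : ℕ}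
    (hp : p.Prime) (hpπ : p ∈ π) (hX : Cfsg.Agent.H817.DPi.RankOne p X) (hE : IsEPiGroup π X) : Dom π X := by
  have := Fact.mk hp
  have hp2 : p ≠ 2 := by rintro rfl; exact h2 hpπ
  rcases hX with ⟨F, iF, iT, hc, h4, ⟨e⟩⟩ | ⟨F, iF, iT, hc, q, hF, hq, ⟨e⟩⟩ | ⟨rfl, h⟩
  · exact (ro_psl2 hp2 h4 e).dom h2 hpπ hE
  · exact (ro_psu3 hp2 hF hq e).dom h2 hpπ hE
  · exact (ro_ree h).dom h2 hpπ hE

end Inst

end Cfsg.Agent.H14.DP
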